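import Cfsg.Agent.Dichotomy.Main
import Cfsg.Agent.Transfer.ThompsonTransfer

/-!
# In a group without subgroups of index 2, every involution lies in a big subgroup
-/

set_option autoImplicit false

namespace Cfsg.Agent.Dichotomy.TransferBig

open Cfsg
open Cfsg.Agent.Dichotomy.Elem
open Cfsg.Agent.Dichotomy.Functor
open Cfsg.Agent.Dichotomy.Local
open Cfsg.Agent.Dichotomy.Key
open Cfsg.Agent.Dichotomy.Main
open Cfsg.Agent.SignalizersComponents.RelSylow

variable {G : Type*} [Group G] [Finite G]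

theorem exists_big_mem (hF : Fun G) (hO2 : ∀ N : Subgroup G, N.Normal → N.index ≠ 2)
    (hrk : ¬ PRankLE 2 2 G) {t : G} (ht : orderOf t = 2) : ∃ A : Subgroup G, Big A ∧ t ∈ A := by
  have h2 : Fact (Nat.Prime 2) := ⟨Nat.prime_two⟩
  obtain ⟨S⟩ : Nonempty (Sylow 2 G) := inferInstance
  obtain ⟨B, hB⟩ := exists_big_of_not_rankLE' hrk
  have hST : IsMaxP 2 ⊤ (S : Subgroup G) := isMaxP_of_le S le_top
  obtain ⟨g, _, hle⟩ := hST.exists_conj_le (isPGroup_of_elem hB.1) le_top
  have hA : Big (B.map (MulAut.conj g).toMonoidHom) := big_map hB (MulAut.conj g).injective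
  obtain ⟨A, hAeq⟩ : ∃ A, A = B.map (MulAut.conj g).toMonoidHom := ⟨_, rfl⟩
  change B.map (MulAut.conj g).toMonoidHom ≤ (S : Subgroup G) at hle
  rw [← hAeq] at hle
  have hA' : Big A := hAeq ▸ hA
  have hSne : (S : Subgroup G) ≠ ⊥ := by
    intro h
    rw [h, le_bot_iff] at hle
    have := hA'.2
    rw [hle, Subgroup.card_bot] at this
    norm_num at this
  obtain ⟨z, hzS, hz2, hz1, hzc⟩ := exists_central_involution S.2 hSne
  obtain ⟨e, heS, he2, he1, hez, hen⟩ := exists_e S.2 hle hA' hzS hz2 hz1 hzc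
  obtain ⟨_, a, haS, ha2, hae, ha1, haz, hane, haze⟩ :=
    rank_lemma hF hle hA' hzS hz2 hz1 hzc heS he2 he1 hez hen
  have hze : z * e = e * z := (hzc e heS).symm
  obtain ⟨S₀, hS₀⟩ : ∃ S₀, S₀ = (S : Subgroup G) ⊓ Subgroup.centralizer ({e} : Set G) := ⟨_, rfl⟩
  -- involutions of `S₀` are in big subgroups
  have hinv : ∀ x ∈ S₀, x * x = 1 → x ≠ 1 → ∃ A : Subgroup G, Big A ∧ x ∈ A := by
    intro x hx hx2 hx1
    rw [hS₀] at hx
    have hxe : x * e = e * x := mem_cent.1 hx.2
    have hxz : x * z = z * x := hzc x hx.1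
    have hbig := big_triple hz2 he2 ha2 hze (hzc a haS).symm hae.symm hz1 he1 hez.symm ha1 haz
        hane haze
    by_cases h1 : x = z
    · exact ⟨_, hbig, Subgroup.mem_sup_left (h1 ▸ left_mem_four z e)⟩
    by_cases h2 : x = e
    · exact ⟨_, hbig, Subgroup.mem_sup_left (h2 ▸ right_mem_four z e)⟩
    by_cases h3 : x = z * e
    · exact ⟨_, hbig, Subgroup.mem_sup_left
        (h3 ▸ mul_mem (left_mem_four z e) (right_mem_four z e))⟩
    · exact ⟨_, big_triple hz2 he2 hx2 hze hxz.symm hxe.symm hz1 he1 hez.symm hx1 h1 h2 h3,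
        Subgroup.mem_sup_right (Subgroup.mem_zpowers x)⟩
  -- an involution is conjugate into `S₀`
  obtain ⟨c, hc⟩ : ∃ c : G, c * t * c⁻¹ ∈ S₀ := by
    by_cases hSS : (S : Subgroup G) ≤ S₀
    · obtain ⟨c, _, hcle⟩ := hST.exists_conj_le (isPGroup_zpowers ht) le_top
      exact ⟨c, hSS (hcle ⟨t, Subgroup.mem_zpowers t, rfl⟩)⟩
    · have hS₀S : S₀ ≤ S := hS₀ ▸ inf_le_left
      obtain ⟨f, hfS, hfS₀⟩ := SetLike.not_le_iff_exists.1 hSS
      have hfe : f * e * f⁻¹ = z * e := by
        refine (hen f hfS).resolve_left ?_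
        intro h
        apply hfS₀
        rw [hS₀]
        exact ⟨hfS, mem_cent.2 (by rwa [mul_inv_eq_iff_eq_mul] at h)⟩
      have hcard : Nat.card (S : Subgroup G) ≤ 2 * Nat.card S₀ := by
        refine card_le_two f ?_
        intro x hx
        rcases hen x hx with h | h
        · left
          rw [mul_inv_eq_iff_eq_mul] at h
          rw [hS₀]
          exact ⟨hx, mem_cent.2 h⟩
        · right
          rw [hS₀]
          refine ⟨mul_mem hfS hx, mem_cent.2 ?_⟩
          rw [← mul_inv_eq_iff_eq_mul]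
          have h3 : f * x * e * (f * x)⁻¹ = f * (x * e * x⁻¹) * f⁻¹ := by group
          have h4 : f * (z * e) * f⁻¹ = z * (f * e * f⁻¹) := by
            rw [← mul_assoc, hzc f hfS]; group
          rw [h3, h, h4, hfe, ← mul_assoc, hz2, one_mul]
      have hidx : S₀.relIndex (S : Subgroup G) = 2 := by
        have h1 : Nat.card S₀ * S₀.relIndex (S : Subgroup G) = Nat.card (S : Subgroup G) := by
          have := Subgroup.card_mul_index (S₀.subgroupOf (S : Subgroup G))
          rwa [Nat.card_congr (Subgroup.subgroupOfEquivOfLe hS₀S).toEquiv] at this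
        have hpos : 0 < Nat.card S₀ := Nat.card_pos
        have hposS : 0 < Nat.card (S : Subgroup G) := Nat.card_pos
        have h3 : S₀.relIndex (S : Subgroup G) ≤ 2 := by
          by_contra h
          push Not at h
          have := Nat.mul_le_mul_left (Nat.card S₀) h
          rw [h1] at this
          have h4 : Nat.card S₀ * Nat.succ 2 = 3 * Nat.card S₀ := by ring
          omega
        have h4 : S₀.relIndex (S : Subgroup G) ≠ 0 := by
          intro h
          rw [h, mul_zero] at h1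
          omega
        have h5 : S₀.relIndex (S : Subgroup G) ≠ 1 := by
          intro h
          exact hSS (Subgroup.relIndex_eq_one.1 h)
        omega
      rcases Transfer.ThompsonTransfer.thompson_transfer S S₀ hS₀S hidx t
        (by rw [← ht]; exact pow_orderOf_eq_one t) with ⟨M, hM, hMi, _⟩ | h
      · exact absurd hMi (hO2 M hM)
      · exact h
  have hoc : orderOf (c * t * c⁻¹) = 2 := by
    rw [← ht]
    exact orderOf_injective (MulAut.conj c).toMonoidHom (MulAut.conj c).injective t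
  obtain ⟨D, hD, hcD⟩ := hinv _ hc (sq_of_orderOf hoc) (ne_one_of_orderOf hoc)
  refine ⟨D.map (MulAut.conj c⁻¹).toMonoidHom, big_map hD (MulAut.conj c⁻¹).injective, ?_⟩
  rw [mem_map_conj, inv_inv]
  exact hcD

end Cfsg.Agent.Dichotomy.TransferBig
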