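import Mathlib
import Cfsg.Prelude.Def_Local
import Cfsg.Agent.Lib.Cores
import Cfsg.Agent.SignalizersComponents.NormalRankTwo

/-!
# Commuting involutions, four-groups and elementary abelian subgroups of order at least 8
-/

set_option autoImplicit false

namespace Cfsg.Agent.Dichotomy.Elem

open Cfsg

variable {G : Type*} [Group G]

/-- elementary abelian of order at least 8 -/
def Big (A : Subgroup G) : Prop := IsElementaryAbelian 2 A ∧ 2 ^ 3 ≤ Nat.card A

theorem elem_comm {A : Subgroup G} (hA : IsElementaryAbelian 2 A) :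
    ∀ a ∈ A, ∀ b ∈ A, a * b = b * a := by
  intro a ha b hb
  have := hA.1
  exact setLike_mul_comm ha hb

theorem elem_sq {A : Subgroup G} (hA : IsElementaryAbelian 2 A) {a : G} (ha : a ∈ A) :
    a * a = 1 := by
  rw [← pow_two]; exact hA.2 a ha

theorem isElementaryAbelian_of {A : Subgroup G} (h1 : ∀ a ∈ A, ∀ b ∈ A, a * b = b * a)
    (h2 : ∀ a ∈ A, a * a = 1) : IsElementaryAbelian 2 A := by
  refine ⟨IsMulCommutative.of_setLike_mul_comm h1, ?_⟩
  intro a ha
  rw [pow_two]; exact h2 a ha

theorem elem_mono {A B : Subgroup G} (hA : IsElementaryAbelian 2 A) (hBA : B ≤ A) :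
    IsElementaryAbelian 2 B :=
  isElementaryAbelian_of (fun a ha b hb => elem_comm hA a (hBA ha) b (hBA hb))
    (fun a ha => elem_sq hA (hBA ha))

theorem orderOf_two {a : G} (h : a * a = 1) (h1 : a ≠ 1) : orderOf a = 2 :=
  orderOf_eq_prime (by rw [pow_two]; exact h) h1

theorem sq_of_orderOf {a : G} (h : orderOf a = 2) : a * a = 1 := by
  rw [← pow_two, ← h, pow_orderOf_eq_one]

theorem ne_one_of_orderOf {a : G} (h : orderOf a = 2) : a ≠ 1 := by
  rintro rfl
  rw [orderOf_one] at h
  omega

theorem isPGroup_of_elem {A : Subgroup G} (hA : IsElementaryAbelian 2 A) : IsPGroup 2 A := by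
  intro x
  refine ⟨1, ?_⟩
  have := hA.2 x x.2
  ext
  simpa using this

theorem card_ge [Finite G] {A : Subgroup G} (hA : IsElementaryAbelian 2 A) {k : ℕ}
    (h : 2 ^ k < Nat.card A) : 2 ^ (k + 1) ≤ Nat.card A := by
  obtain ⟨n, hn⟩ := (IsPGroup.iff_card (p := 2)).1 (isPGroup_of_elem hA)
  rw [hn] at h ⊢
  have := (Nat.pow_lt_pow_iff_right (by norm_num : 1 < 2)).1 h
  exact Nat.pow_le_pow_right (by norm_num) this

/-- join of commuting elementary abelian subgroups -/
theorem elem_sup {A B : Subgroup G}
    (hA : IsElementaryAbelian 2 A) (hB : IsElementaryAbelian 2 B)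
    (hAB : ∀ a ∈ A, ∀ b ∈ B, a * b = b * a) : IsElementaryAbelian 2 (A ⊔ B) := by
  have hAc := elem_comm hA
  have hBc := elem_comm hB
  have hcl : Subgroup.closure ((A : Set G) ∪ B) = A ⊔ B := by
    rw [Subgroup.closure_union, Subgroup.closure_eq, Subgroup.closure_eq]
  have hmc : IsMulCommutative (A ⊔ B : Subgroup G) := by
    rw [← hcl]
    refine Subgroup.isMulCommutative_closure ?_
    rintro x (hx | hx) y (hy | hy)
    · exact hAc x hx y hy
    · exact hAB x hx y hy
    · exact (hAB y hy x hx).symm
    · exact hBc x hx y hy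
  refine ⟨hmc, ?_⟩
  have key : ∀ x ∈ Subgroup.closure ((A : Set G) ∪ B), x ^ 2 = 1 := by
    intro x hx
    induction hx using Subgroup.closure_induction with
    | mem x hx =>
      rcases hx with hx | hx
      · exact hA.2 x hx
      · exact hB.2 x hx
    | one => exact one_pow 2
    | mul x y hx hy hx1 hy1 =>
      rw [hcl] at hx hy
      have hc : Commute x y := setLike_mul_comm hx hy
      rw [hc.mul_pow, hx1, hy1, one_mul]
    | inv x hx hx1 => rw [inv_pow, hx1, inv_one]
  intro x hx
  rw [← hcl] at hx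
  exact key x hx

/-- the subgroup generated by two elements; a four-group for distinct commuting involutions -/
def four (a b : G) : Subgroup G := Subgroup.closure {a, b}

theorem left_mem_four (a b : G) : a ∈ four a b := Subgroup.subset_closure (by simp)

theorem right_mem_four (a b : G) : b ∈ four a b := Subgroup.subset_closure (by simp)

theorem four_le {a b : G} {H : Subgroup G} (ha : a ∈ H) (hb : b ∈ H) : four a b ≤ H := by
  unfold four
  rw [Subgroup.closure_le]
  rintro x (rfl | rfl)
  · exact ha
  · exact hb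

theorem mem_four_iff {a b : G} (ha : a * a = 1) (hb : b * b = 1) (hab : a * b = b * a) {x : G} :
    x ∈ four a b ↔ x = 1 ∨ x = a ∨ x = b ∨ x = a * b := by
  constructor
  · intro hx
    have hai : a⁻¹ = a := inv_eq_of_mul_eq_one_left ha
    have hbi : b⁻¹ = b := inv_eq_of_mul_eq_one_left hb
    let H : Subgroup G :=
      { carrier := {x | x = 1 ∨ x = a ∨ x = b ∨ x = a * b}
        one_mem' := Or.inl rfl
        mul_mem' := by
          have e1 : a * (a * b) = b := by rw [← mul_assoc, ha, one_mul]
          have e2 : b * (a * b) = a := by rw [hab, ← mul_assoc, hb, one_mul]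
          have e3 : a * b * a = b := by rw [hab, mul_assoc, ha, mul_one]
          have e4 : a * b * b = a := by rw [mul_assoc, hb, mul_one]
          have e5 : a * b * (a * b) = 1 := by rw [← mul_assoc, e3, hb]
          rintro x y (rfl | rfl | rfl | rfl) (rfl | rfl | rfl | rfl) <;>
            simp [ha, hb, e1, e2, e3, e4, e5, ← hab]
        inv_mem' := by
          rintro x (rfl | rfl | rfl | rfl)
          · left; simp
          · right; left; exact hai
          · right; right; left; exact hbi
          · right; right; right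
            rw [mul_inv_rev, hai, hbi, hab] }
    exact four_le (H := H) (Or.inr (Or.inl rfl)) (Or.inr (Or.inr (Or.inl rfl))) hx
  · rintro (rfl | rfl | rfl | rfl)
    · exact one_mem _
    · exact left_mem_four _ _
    · exact right_mem_four _ _
    · exact mul_mem (left_mem_four _ _) (right_mem_four _ _)

theorem elem_four {a b : G} (ha : a * a = 1) (hb : b * b = 1) (hab : a * b = b * a) :
    IsElementaryAbelian 2 (four a b) := by
  have e1 : a * (a * b) = b := by rw [← mul_assoc, ha, one_mul]
  have e2 : b * (a * b) = a := by rw [hab, ← mul_assoc, hb, one_mul]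
  have e3 : a * b * a = b := by rw [hab, mul_assoc, ha, mul_one]
  have e4 : a * b * b = a := by rw [mul_assoc, hb, mul_one]
  have e5 : a * b * (a * b) = 1 := by rw [← mul_assoc, e3, hb]
  refine isElementaryAbelian_of ?_ ?_
  · intro x hx y hy
    rw [mem_four_iff ha hb hab] at hx hy
    rcases hx with rfl | rfl | rfl | rfl <;> rcases hy with rfl | rfl | rfl | rfl <;>
      simp [ha, hb, e1, e2, e3, e4, e5, ← hab]
  · intro x hx
    rw [mem_four_iff ha hb hab] at hx
    rcases hx with rfl | rfl | rfl | rfl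
    · simp
    · exact ha
    · exact hb
    · exact e5

theorem card_four {a b : G} (ha : a * a = 1) (hb : b * b = 1) (hab : a * b = b * a)
    (ha1 : a ≠ 1) (hb1 : b ≠ 1) (hne : a ≠ b) : Nat.card (four a b) = 4 := by
  classical
  have h1 : ((four a b : Subgroup G) : Set G) = (({1, a, b, a * b} : Finset G) : Set G) := by
    ext x
    rw [SetLike.mem_coe, mem_four_iff ha hb hab]
    simp
  have h2 : Nat.card (four a b) = Set.ncard ((four a b : Subgroup G) : Set G) := rfl
  rw [h2, h1, Set.ncard_coe_finset]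
  have hab1 : a * b ≠ 1 := by
    intro h
    apply hne
    have : a = b⁻¹ := eq_inv_of_mul_eq_one_left h
    rw [this]
    exact inv_eq_of_mul_eq_one_left hb
  have haab : a ≠ a * b := by
    intro h
    exact hb1 (by simpa using h.symm)
  have hbab : b ≠ a * b := by
    intro h
    exact ha1 (by simpa using h.symm)
  rw [Finset.card_insert_of_notMem (by simp [ha1.symm, hb1.symm, hab1.symm]),
    Finset.card_insert_of_notMem (by
      simp only [Finset.mem_insert, Finset.mem_singleton, not_or]
      exact ⟨hne, haab⟩),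
    Finset.card_insert_of_notMem (by
      simp only [Finset.mem_singleton]
      exact hbab), Finset.card_singleton]

/-- three independent commuting involutions generate an elementary abelian group of order at
least 8 -/
theorem big_triple [Finite G] {a b c : G} (ha : a * a = 1) (hb : b * b = 1) (hc : c * c = 1)
    (hab : a * b = b * a) (hac : a * c = c * a) (hbc : b * c = c * b)
    (ha1 : a ≠ 1) (hb1 : b ≠ 1) (hne : a ≠ b) (hc1 : c ≠ 1) (hca : c ≠ a) (hcb : c ≠ b)
    (hcab : c ≠ a * b) :
    Big (four a b ⊔ Subgroup.zpowers c) := by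
  have hz : IsElementaryAbelian 2 (Subgroup.zpowers c) := by
    refine isElementaryAbelian_of ?_ ?_
    · rintro _ ⟨k, rfl⟩ _ ⟨l, rfl⟩
      exact ((Commute.refl c).zpow_left k |>.zpow_right l).eq
    · rintro _ ⟨k, rfl⟩
      change c ^ k * c ^ k = 1
      rw [← ((Commute.refl c).mul_zpow k), hc, one_zpow]
  have hsup : IsElementaryAbelian 2 (four a b ⊔ Subgroup.zpowers c) := by
    refine elem_sup (elem_four ha hb hab) hz ?_
    rintro x hx _ ⟨k, rfl⟩
    have : Commute x c := by
      have hle : four a b ≤ Subgroup.centralizer ({c} : Set G) :=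
        four_le (Subgroup.mem_centralizer_singleton_iff.2 hac)
          (Subgroup.mem_centralizer_singleton_iff.2 hbc)
      exact Subgroup.mem_centralizer_singleton_iff.1 (hle hx)
    exact (this.zpow_right k).eq
  refine ⟨hsup, card_ge hsup ?_⟩
  rw [show (2 : ℕ) ^ 2 = 4 from rfl, ← card_four ha hb hab ha1 hb1 hne]
  refine lt_of_le_of_ne (Subgroup.card_le_of_le le_sup_left) ?_
  intro h
  have h1 : four a b = four a b ⊔ Subgroup.zpowers c :=
    Subgroup.eq_of_le_of_card_ge le_sup_left h.ge
  have h2 : c ∈ four a b := by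
    rw [h1]
    exact Subgroup.mem_sup_right (Subgroup.mem_zpowers c)
  rw [mem_four_iff ha hb hab] at h2
  rcases h2 with h | h | h | h
  · exact hc1 h
  · exact hca h
  · exact hcb h
  · exact hcab h

theorem triple_le {a b c : G} {H : Subgroup G} (ha : a ∈ H) (hb : b ∈ H) (hc : c ∈ H) :
    four a b ⊔ Subgroup.zpowers c ≤ H := by
  refine sup_le (four_le ha hb) ?_
  rw [Subgroup.zpowers_le]
  exact hc

/-- a big subgroup in the centralizer of two commuting involutions can be enlarged to contain
them. -/
theorem big_enlarge [Finite G] {a b : G} (ha : a * a = 1) (hb : b * b = 1)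
    (hab : a * b = b * a) {A : Subgroup G} (hA : Big A)
    (haA : ∀ x ∈ A, a * x = x * a) (hbA : ∀ x ∈ A, b * x = x * b) :
    Big (four a b ⊔ A) := by
  refine ⟨elem_sup (elem_four ha hb hab) hA.1 ?_, hA.2.trans (Subgroup.card_le_of_le le_sup_right)⟩
  intro x hx y hy
  have hle : four a b ≤ Subgroup.centralizer ({y} : Set G) :=
    four_le (Subgroup.mem_centralizer_singleton_iff.2 (haA y hy))
      (Subgroup.mem_centralizer_singleton_iff.2 (hbA y hy))
  exact Subgroup.mem_centralizer_singleton_iff.1 (hle hx)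

theorem big_map {H : Type*} [Group H] {A : Subgroup G} (hA : Big A) {f : G →* H}
    (hf : Function.Injective f) : Big (A.map f) := by
  refine ⟨isElementaryAbelian_of ?_ ?_, ?_⟩
  · rintro _ ⟨a, ha, rfl⟩ _ ⟨b, hb, rfl⟩
    rw [← map_mul, ← map_mul, elem_comm hA.1 a ha b hb]
  · rintro _ ⟨a, ha, rfl⟩
    rw [← map_mul, elem_sq hA.1 ha, map_one]
  · rw [Nat.card_congr (A.equivMapOfInjective f hf).symm.toEquiv]
    exact hA.2

/-- `¬ PRankLE 2 2 C` gives a big subgroup of `C` -/
theorem exists_big_of_not_rankLE [Finite G] {C : Subgroup G} (h : ¬ PRankLE 2 2 C) :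
    ∃ B : Subgroup G, B ≤ C ∧ Big B := by
  unfold PRankLE at h
  push Not at h
  obtain ⟨B, hB1, hB2, hB3⟩ := h
  have hE : IsElementaryAbelian 2 B := ⟨hB1, hB2⟩
  have hBig : Big B := ⟨hE, card_ge hE hB3⟩
  exact ⟨B.map C.subtype, Subgroup.map_subtype_le B, big_map hBig C.subtype_injective⟩

theorem exists_big_of_not_rankLE' [Finite G] (h : ¬ PRankLE 2 2 G) :
    ∃ B : Subgroup G, Big B := by
  unfold PRankLE at h
  push Not at h
  obtain ⟨B, hB1, hB2, hB3⟩ := h
  have hE : IsElementaryAbelian 2 B := ⟨hB1, hB2⟩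
  exact ⟨B, hE, card_ge hE hB3⟩

/-- conversely -/
theorem not_rankLE_of_big [Finite G] {C B : Subgroup G} (hBC : B ≤ C) (hB : Big B) :
    ¬ PRankLE 2 2 C := by
  intro h
  have h1 := h (B.subgroupOf C) (by
      have := hB.1.1
      infer_instance) (by
      intro a ha
      ext
      simpa using hB.1.2 a ha)
  have hcard : Nat.card (B.subgroupOf C) = Nat.card B :=
    Nat.card_congr (Subgroup.subgroupOfEquivOfLe hBC).toEquiv
  rw [hcard] at h1
  have := hB.2
  omega

/-! ### The normal four-group of a `2`-group of rank at least 3 -/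

/-- `T` a `2`-group with a big subgroup and `s` a central involution: there is an involution
`e ≠ s` of `T` such that `⟨s, e⟩` is normal in `T`. -/
theorem exists_e [Finite G] {T : Subgroup G} (hT : IsPGroup 2 T) {A : Subgroup G} (hAT : A ≤ T)
    (hA : Big A) {s : G} (hsT : s ∈ T) (hs2 : s * s = 1) (hs1 : s ≠ 1)
    (hsc : ∀ t ∈ T, t * s = s * t) :
    ∃ e ∈ T, e * e = 1 ∧ e ≠ 1 ∧ e ≠ s ∧ ∀ t ∈ T, t * e * t⁻¹ = e ∨ t * e * t⁻¹ = s * e := by
  have hA' : Big (A.subgroupOf T) := by
    refine ⟨isElementaryAbelian_of ?_ ?_, ?_⟩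
    · intro a ha b hb
      exact Subtype.ext (elem_comm hA.1 a ha b hb)
    · intro a ha
      exact Subtype.ext (elem_sq hA.1 ha)
    · rw [Nat.card_congr (Subgroup.subgroupOfEquivOfLe hAT).toEquiv]
      exact hA.2
  obtain ⟨U, hUn, hUe, hUc⟩ := SignalizersComponents.NormalRankTwo.exists_normal_elem_sq hT
    (A.subgroupOf T) hA'.1 (lt_of_lt_of_le (by norm_num) hA'.2)
  by_cases hsU : (⟨s, hsT⟩ : T) ∈ U
  · -- some element of `U` outside `⟨s⟩`
    obtain ⟨e, heU, he1, hes⟩ : ∃ e ∈ U, e ≠ 1 ∧ e ≠ ⟨s, hsT⟩ := by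
      by_contra hcon
      push Not at hcon
      have hle : U ≤ Subgroup.zpowers (⟨s, hsT⟩ : T) := by
        intro x hx
        by_cases hx1 : x = 1
        · rw [hx1]; exact one_mem _
        · rw [hcon x hx hx1]; exact Subgroup.mem_zpowers _
      have h1 := Subgroup.card_le_of_le hle
      rw [hUc, Nat.card_zpowers, orderOf_two (Subtype.ext hs2)
        (fun h => hs1 (congrArg Subtype.val h))] at h1
      norm_num at h1
    refine ⟨e, e.2, congrArg Subtype.val (elem_sq hUe heU), fun h => he1 (Subtype.ext h),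
      fun h => hes (Subtype.ext h), ?_⟩
    intro t ht
    have hU4 : U = four (⟨s, hsT⟩ : T) e := by
      symm
      apply Subgroup.eq_of_le_of_card_ge (four_le hsU heU)
      rw [hUc, card_four (Subtype.ext hs2) (elem_sq hUe heU) (elem_comm hUe _ hsU _ heU)
        (fun h => hs1 (congrArg Subtype.val h)) he1 hes.symm]
      norm_num
    have hconj : (⟨t, ht⟩ : T) * e * (⟨t, ht⟩ : T)⁻¹ ∈ U := hUn.conj_mem e heU ⟨t, ht⟩
    rw [hU4, mem_four_iff (Subtype.ext hs2) (elem_sq hUe heU) (elem_comm hUe _ hsU _ heU)] at hconj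
    rcases hconj with h | h | h | h
    · exfalso
      apply he1
      have := congrArg (fun x => (⟨t, ht⟩ : T)⁻¹ * x * (⟨t, ht⟩ : T)) h
      simpa [mul_assoc] using this
    · exfalso
      apply hes
      have := congrArg (fun x => (⟨t, ht⟩ : T)⁻¹ * x * (⟨t, ht⟩ : T)) h
      have h2 : (⟨t, ht⟩ : T)⁻¹ * (⟨s, hsT⟩ : T) * (⟨t, ht⟩ : T) = ⟨s, hsT⟩ := by
        apply Subtype.ext
        change t⁻¹ * s * t = s
        rw [mul_assoc, ← hsc t ht, inv_mul_cancel_left]
      rw [h2] at this
      simpa [mul_assoc] using this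
    · left; exact congrArg Subtype.val h
    · right; exact congrArg Subtype.val h
  · -- a central involution in `U`
    have hcent : Nontrivial (Subgroup.center T) := by
      have : Nontrivial T := ⟨⟨s, hsT⟩, 1, fun h => hs1 (congrArg Subtype.val h)⟩
      exact hT.center_nontrivial
    have hUne : U ≠ ⊥ := by
      intro h
      rw [h, Subgroup.card_bot] at hUc
      norm_num at hUc
    have : Group.IsNilpotent T := hT.isNilpotent
    have hne := Lib.NormalAbelian.normal_inf_center_ne_bot U hUne
    obtain ⟨z, hz1⟩ := (Subgroup.ne_bot_iff_exists_ne_one.1 hne)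
    obtain ⟨hzU, hzc⟩ := Subgroup.mem_inf.1 z.2
    have hz1' : (z : T) ≠ 1 := fun h => hz1 (Subtype.ext h)
    refine ⟨(z : T), (z : T).2, congrArg Subtype.val (elem_sq hUe hzU),
      fun h => hz1' (Subtype.ext h), ?_, ?_⟩
    · intro h
      apply hsU
      have h2 : (⟨s, hsT⟩ : T) = z := Subtype.ext h.symm
      rw [h2]; exact hzU
    · intro t ht
      left
      have h2 := Subgroup.mem_center_iff.1 hzc ⟨t, ht⟩
      have h3 : t * ((z : T) : G) = ((z : T) : G) * t := congrArg Subtype.val h2
      rw [h3, mul_inv_cancel_right]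

end Cfsg.Agent.Dichotomy.Elem
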