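import Cfsg.Agent.Dichotomy.Key

/-!
# A central involution and a commuting involution lie in a common big subgroup
-/

set_option autoImplicit false

namespace Cfsg.Agent.Dichotomy.Central

open Cfsg
open Cfsg.Agent.Dichotomy.Elem
open Cfsg.Agent.Dichotomy.Functor
open Cfsg.Agent.Dichotomy.Key
open Cfsg.Agent.SignalizersComponents.RelSylow

variable {G : Type*} [Group G]

/-- the computation with the dihedral group `⟨s, a⟩` -/
theorem dihedral_aux {z s e a : G} {S : Subgroup G} (hS : IsPGroup 2 S)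
    (hzS : ∀ t ∈ S, t * z = z * t)
    (hz2 : z * z = 1) (hsS : s ∈ S) (hs2 : s * s = 1)
    (heS : e ∈ S) (he2 : e * e = 1) (hse : s * e * s⁻¹ = z * e)
    (hd : ∀ b ∈ S, b * b = 1 → b * e = e * b → b * s = s * b → b = 1 ∨ b = z)
    (hg : ∀ r ∈ S, r * s = s * r → r * r ≠ z)
    (haS : a ∈ S) (ha2 : a * a = 1) (hae : a * e = e * a) (ha1 : a ≠ 1) (haz : a ≠ z)
    (hane : a ≠ e) (haze : a ≠ z * e) : False := by
  have hai : a⁻¹ = a := inv_eq_of_mul_eq_one_left ha2
  have hsi : s⁻¹ = s := inv_eq_of_mul_eq_one_left hs2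
  have hzi : z⁻¹ = z := inv_eq_of_mul_eq_one_left hz2
  have hei : e⁻¹ = e := inv_eq_of_mul_eq_one_left he2
  obtain ⟨w, hw⟩ : ∃ w, w = s * a := ⟨_, rfl⟩
  have hwS : w ∈ S := hw ▸ mul_mem hsS haS
  have hwi : w⁻¹ = a * s := by rw [hw, mul_inv_rev, hai, hsi]
  have hsw : s * w * s⁻¹ = w⁻¹ := by
    rw [hwi, hw, hsi, ← mul_assoc, hs2, one_mul]
  have hswn : ∀ n : ℕ, s * w ^ n * s⁻¹ = (w ^ n)⁻¹ := by
    intro n
    rw [← conj_pow, hsw, inv_pow]
  have hwe : w * e * w⁻¹ = z * e := by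
    have h1 : w * e * w⁻¹ = s * (a * e * a⁻¹) * s⁻¹ := by rw [hw]; group
    have h2 : a * e * a⁻¹ = e := by rw [hae, mul_inv_cancel_right]
    rw [h1, h2, hse]
  have hwwe : (w * w) * e = e * (w * w) := by
    have h1 : (w * w) * e * (w * w)⁻¹ = w * (w * e * w⁻¹) * w⁻¹ := by group
    have h2 : w * (z * e) * w⁻¹ = z * (w * e * w⁻¹) := by
      rw [← mul_assoc, hzS w hwS]; group
    rw [hwe, h2, hwe, ← mul_assoc, hz2, one_mul] at h1
    rwa [mul_inv_eq_iff_eq_mul] at h1
  have hwwe' : ∀ n : ℕ, w ^ (2 * n) * e = e * w ^ (2 * n) := by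
    intro n
    rw [pow_mul, pow_two]
    exact (Commute.pow_left (show Commute (w * w) e from hwwe) n)
  have hww : w * w ≠ 1 := by
    intro h
    have h1 : w⁻¹ = w := inv_eq_of_mul_eq_one_left h
    have has : a * s = s * a := by rw [← hwi, h1, hw]
    rcases hd a haS ha2 hae has with h | h
    · exact ha1 h
    · exact haz h
  -- the order of `w`
  have hex : ∃ k, w ^ (2 ^ k) = 1 := by
    obtain ⟨k, hk⟩ := hS ⟨w, hwS⟩
    exact ⟨k, congrArg Subtype.val hk⟩
  classical
  obtain ⟨k, hk⟩ : ∃ k, k = Nat.find hex := ⟨_, rfl⟩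
  have hk1 : w ^ (2 ^ k) = 1 := hk ▸ Nat.find_spec hex
  have hkmin : ∀ j, j < k → w ^ (2 ^ j) ≠ 1 := fun j hj => Nat.find_min hex (hk ▸ hj)
  have hk0 : k ≠ 0 := by
    rintro rfl
    rw [pow_zero, pow_one] at hk1
    apply hww
    rw [hk1, one_mul]
  have hk1' : k ≠ 1 := by
    rintro rfl
    rw [pow_one, pow_two] at hk1
    exact hww hk1
  obtain ⟨j, rfl⟩ : ∃ j, k = j + 2 := ⟨k - 2, by omega⟩
  -- the involution
  obtain ⟨r, hr⟩ : ∃ r, r = w ^ (2 ^ j) := ⟨_, rfl⟩
  have hrr : r * r = w ^ (2 * 2 ^ j) := by rw [hr, ← pow_add]; congr 1; ring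
  have hrS : r ∈ S := hr ▸ pow_mem hwS _
  have hrr2 : (r * r) * (r * r) = 1 := by
    rw [hrr, ← pow_add, ← hk1]; congr 1; ring
  have hrr1 : r * r ≠ 1 := by
    have := hkmin (j + 1) (by omega)
    rwa [pow_succ', ← hrr] at this
  have hrre : (r * r) * e = e * (r * r) := by rw [hrr]; exact hwwe' _
  have hsr : s * r * s⁻¹ = r⁻¹ := by rw [hr]; exact hswn _
  have hrrs : (r * r) * s = s * (r * r) := by
    have h1 : s * (r * r) * s⁻¹ = (s * r * s⁻¹) * (s * r * s⁻¹) := by group
    have h2 : (r * r)⁻¹ = r * r := inv_eq_of_mul_eq_one_left hrr2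
    have h3 : s * (r * r) * s⁻¹ = r * r := by
      rw [h1, hsr, ← mul_inv_rev, h2]
    rw [mul_inv_eq_iff_eq_mul] at h3
    exact h3.symm
  have hrrz : r * r = z :=
    (hd (r * r) (mul_mem hrS hrS) hrr2 hrre hrrs).resolve_left hrr1
  have hri : r⁻¹ = z * r := by
    rw [inv_eq_iff_mul_eq_one, ← mul_assoc, hzS r hrS, mul_assoc, hrrz, hz2]
  rcases Nat.eq_zero_or_pos j with hj | hj
  · -- `w * w = z`
    subst hj
    have hrw : r = w := by rw [hr]; simp
    rw [hrw] at hri hrrz
    -- `s a s = z a`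
    have hsa : s * a * s⁻¹ = z * a := by
      rw [hsi, ← hw]
      have h1 : w = z * w⁻¹ := by rw [hri, ← mul_assoc, hz2, one_mul]
      rw [h1, hwi]
      calc z * (a * s) * s = z * a * (s * s) := by group
        _ = z * a := by rw [hs2, mul_one]
    have hsae : s * (a * e) * s⁻¹ = a * e := by
      have h1 : s * (a * e) * s⁻¹ = (s * a * s⁻¹) * (s * e * s⁻¹) := by group
      rw [h1, hsa, hse]
      calc z * a * (z * e) = z * (a * z) * e := by group
        _ = (z * z) * (a * e) := by rw [hzS a haS]; group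
        _ = a * e := by rw [hz2, one_mul]
    have hae2 : (a * e) * (a * e) = 1 := by
      calc (a * e) * (a * e) = a * (e * a) * e := by group
        _ = (a * a) * (e * e) := by rw [← hae]; group
        _ = 1 := by rw [ha2, he2, one_mul]
    have haee : (a * e) * e = e * (a * e) := by rw [hae, mul_assoc, hae]
    rcases hd (a * e) (mul_mem haS heS) hae2 haee (by
      rw [mul_inv_eq_iff_eq_mul] at hsae; exact hsae.symm) with h | h
    · apply hane
      rw [mul_eq_one_iff_eq_inv, hei] at h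
      exact h
    · apply haze
      have : a = a * e * e := by rw [mul_assoc, he2, mul_one]
      rw [this, h]
  · -- `r` commutes with `e`
    have hre : r * e = e * r := by
      obtain ⟨i, rfl⟩ : ∃ i, j = i + 1 := ⟨j - 1, by omega⟩
      rw [hr, pow_succ']
      exact hwwe' _
    have hsre : s * (r * e) * s⁻¹ = r * e := by
      have h1 : s * (r * e) * s⁻¹ = (s * r * s⁻¹) * (s * e * s⁻¹) := by group
      rw [h1, hsr, hri, hse]
      calc z * r * (z * e) = z * (r * z) * e := by group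
        _ = (z * z) * (r * e) := by rw [hzS r hrS]; group
        _ = r * e := by rw [hz2, one_mul]
    refine hg (r * e) (mul_mem hrS heS) ?_ ?_
    · rw [mul_inv_eq_iff_eq_mul] at hsre; exact hsre.symm
    · calc (r * e) * (r * e) = r * (e * r) * e := by group
        _ = (r * r) * (e * e) := by rw [← hre]; group
        _ = z := by rw [he2, mul_one, hrrz]

theorem central_aux [Finite G] (hF : Fun G)
    (hT1 : ∀ t : G, orderOf t = 2 → ∃ A : Subgroup G, Big A ∧ t ∈ A) {z s : G} {S : Subgroup G}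
    (hS : IsMaxP 2 (Subgroup.centralizer ({z} : Set G)) S)
    (hz2 : z * z = 1) (hz1 : z ≠ 1) (hs2 : s * s = 1) (hs1 : s ≠ 1) (hsz : s ≠ z)
    (hsS : s ∈ S)
    (hB : IsMaxP 2 (Subgroup.centralizer ({z} : Set G) ⊓ Subgroup.centralizer ({s} : Set G))
      (S ⊓ Subgroup.centralizer ({s} : Set G))) :
    ∃ A : Subgroup G, Big A ∧ z ∈ A ∧ s ∈ A := by
  by_contra hcon
  push Not at hcon
  have hSz : ∀ t ∈ S, t * z = z * t := fun t ht => mem_cent.1 (hS.2.1 ht)
  have hsi : s⁻¹ = s := inv_eq_of_mul_eq_one_left hs2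
  have hzsc : z * s = s * z := (hSz s hsS).symm
  have hzS : z ∈ S := mem_of_central hS (mem_cent.2 rfl) hz2 (fun c hc => mem_cent.1 hc)
  have hoz := orderOf_two hz2 hz1
  have hos := orderOf_two hs2 hs1
  -- a big subgroup of `S`
  obtain ⟨A, hAS, hA⟩ : ∃ A : Subgroup G, A ≤ S ∧ Big A := by
    obtain ⟨A, hA, hzA⟩ := hT1 z hoz
    have hAC : A ≤ Subgroup.centralizer ({z} : Set G) := fun a ha =>
      mem_cent.2 (elem_comm hA.1 a ha z hzA)
    obtain ⟨c, _, hle⟩ := hS.exists_conj_le (isPGroup_of_elem hA.1) hAC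
    exact ⟨_, hle, big_map hA (MulAut.conj c).injective⟩
  obtain ⟨e, heS, he2, he1, hez, hen⟩ := exists_e hS.1 hAS hA hzS hz2 hz1 hSz
  obtain ⟨_, a, haS, ha2, hae, ha1, haz, hane, haze⟩ :=
    rank_lemma hF hAS hA hzS hz2 hz1 hSz heS he2 he1 hez hen
  have hze : z * e = e * z := (hSz e heS).symm
  -- `s` does not commute with `e`
  have hsne : ¬ s * e = e * s := by
    intro hse
    by_cases h1 : s = e
    · have hbig := big_triple hz2 he2 ha2 hze (hSz a haS).symm hae.symm hz1 he1 hez.symm ha1 haz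
        hane haze
      exact hcon _ hbig (Subgroup.mem_sup_left (left_mem_four z e))
        (Subgroup.mem_sup_left (h1 ▸ right_mem_four z e))
    by_cases h2 : s = z * e
    · have hbig := big_triple hz2 he2 ha2 hze (hSz a haS).symm hae.symm hz1 he1 hez.symm ha1 haz
        hane haze
      exact hcon _ hbig (Subgroup.mem_sup_left (left_mem_four z e))
        (Subgroup.mem_sup_left (h2 ▸ mul_mem (left_mem_four z e) (right_mem_four z e)))
    · have hbig := big_triple hz2 he2 hs2 hze hzsc hse.symm hz1 he1 hez.symm hs1 hsz h1 h2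
      exact hcon _ hbig (Subgroup.mem_sup_left (left_mem_four z e))
        (Subgroup.mem_sup_right (Subgroup.mem_zpowers s))
  have hse : s * e * s⁻¹ = z * e := by
    refine (hen s hsS).resolve_left ?_
    intro h
    rw [mul_inv_eq_iff_eq_mul] at h
    exact hsne h
  -- `s z` does not commute with `e`
  have hszne : ¬ (s * z) * e = e * (s * z) := by
    intro h
    apply hsne
    have h1 : s * e * z = e * s * z := by
      rw [mul_assoc, ← hze, ← mul_assoc, h, mul_assoc]
    exact mul_right_cancel h1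
  -- (d)
  have hd : ∀ b ∈ S, b * b = 1 → b * e = e * b → b * s = s * b → b = 1 ∨ b = z := by
    intro b hb hb2 hbe hbs
    by_contra hcon'
    push Not at hcon'
    have hbig := big_triple hz2 hs2 hb2 hzsc (hSz b hb).symm hbs.symm hz1 hs1 hsz.symm
      hcon'.1 hcon'.2 (fun h => hsne (h ▸ hbe)) (fun h => hszne (by rw [← hzsc, ← h]; exact hbe))
    exact hcon _ hbig (Subgroup.mem_sup_left (left_mem_four z s))
      (Subgroup.mem_sup_left (right_mem_four z s))
  -- every element of `S` or its product with `s` commutes with `e`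
  have hor : ∀ b ∈ S, b * e = e * b ∨ (s * b) * e = e * (s * b) := by
    intro b hb
    rcases hen b hb with h | h
    · left; rwa [mul_inv_eq_iff_eq_mul] at h
    · right
      rw [← mul_inv_eq_iff_eq_mul]
      have h1 : s * b * e * (s * b)⁻¹ = s * (b * e * b⁻¹) * s⁻¹ := by group
      have h2 : s * (z * e) * s⁻¹ = z * (s * e * s⁻¹) := by
        rw [← mul_assoc, ← hzsc]; group
      rw [h1, h, h2, hse, ← mul_assoc, hz2, one_mul]
  -- the involutions of `B = S ∩ C(s)`
  have hBinv : ∀ b ∈ S, b * b = 1 → b * s = s * b → b = 1 ∨ b = z ∨ b = s ∨ b = s * z := by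
    intro b hb hb2 hbs
    rcases hor b hb with h | h
    · rcases hd b hb hb2 h hbs with h | h
      · exact Or.inl h
      · exact Or.inr (Or.inl h)
    · have h1 : (s * b) * (s * b) = 1 := by
        calc (s * b) * (s * b) = s * (b * s) * b := by group
          _ = (s * s) * (b * b) := by rw [hbs]; group
          _ = 1 := by rw [hs2, hb2, one_mul]
      have h2 : (s * b) * s = s * (s * b) := by rw [mul_assoc, hbs]
      have h3 : b = s * (s * b) := by rw [← mul_assoc, hs2, one_mul]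
      rcases hd (s * b) (mul_mem hsS hb) h1 h h2 with h | h
      · right; right; left
        rw [h3, h, mul_one]
      · right; right; right
        rw [h3, h]
  -- `B` has no big subgroup
  have hBnb : ∀ A' : Subgroup G, A' ≤ S ⊓ Subgroup.centralizer ({s} : Set G) → ¬ Big A' := by
    intro A' hA' hbA'
    have hbig := big_enlarge hz2 hs2 hzsc hbA' (fun x hx => (hSz x (hA' hx).1).symm)
      (fun x hx => (mem_cent.1 (hA' hx).2).symm)
    exact hcon _ hbig (Subgroup.mem_sup_left (left_mem_four z s))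
      (Subgroup.mem_sup_left (right_mem_four z s))
  -- `T`
  obtain ⟨T, hT, hBT⟩ := exists_isMaxP (p := 2) (hB.1)
    (inf_le_right : S ⊓ Subgroup.centralizer ({s} : Set G) ≤ Subgroup.centralizer ({s} : Set G))
  obtain ⟨A', hA'T, hA'⟩ : ∃ A : Subgroup G, A ≤ T ∧ Big A := by
    obtain ⟨A, hA, hsA⟩ := hT1 s hos
    have hAC : A ≤ Subgroup.centralizer ({s} : Set G) := fun a ha =>
      mem_cent.2 (elem_comm hA.1 a ha s hsA)
    obtain ⟨c, _, hle⟩ := hT.exists_conj_le (isPGroup_of_elem hA.1) hAC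
    exact ⟨_, hle, big_map hA (MulAut.conj c).injective⟩
  have hTB : ¬ T ≤ S ⊓ Subgroup.centralizer ({s} : Set G) := fun h => hBnb A' (hA'T.trans h) hA'
  obtain ⟨y, hyT, hyN, hyB⟩ := exists_mem_normalizer hT.1 hBT hTB
  have hys : y * s = s * y := mem_cent.1 (hT.2.1 hyT)
  have hyz : y * z ≠ z * y := by
    intro h
    apply hyB
    have h1 : IsPGroup 2 ↥((S ⊓ Subgroup.centralizer ({s} : Set G)) ⊔ Subgroup.zpowers y) :=
      hT.1.to_le (sup_le hBT (by rw [Subgroup.zpowers_le]; exact hyT))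
    have h2 : (S ⊓ Subgroup.centralizer ({s} : Set G)) ⊔ Subgroup.zpowers y ≤
        Subgroup.centralizer ({z} : Set G) ⊓ Subgroup.centralizer ({s} : Set G) := by
      refine sup_le hB.2.1 ?_
      rw [Subgroup.zpowers_le]
      exact ⟨mem_cent.2 h, mem_cent.2 hys⟩
    exact hB.2.2 _ h1 h2 le_sup_left (Subgroup.mem_sup_right (Subgroup.mem_zpowers y))
  have hyzy : y * z * y⁻¹ = s * z := by
    have hzB : z ∈ S ⊓ Subgroup.centralizer ({s} : Set G) := ⟨hzS, mem_cent.2 hzsc⟩
    have h1 := (Subgroup.mem_normalizer_iff.1 hyN z).1 hzB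
    have h2 : (y * z * y⁻¹) * (y * z * y⁻¹) = 1 := by
      have : (y * z * y⁻¹) * (y * z * y⁻¹) = y * (z * z) * y⁻¹ := by group
      rw [this, hz2]; group
    rcases hBinv _ h1.1 h2 (mem_cent.1 h1.2) with h | h | h | h
    · exfalso
      apply hz1
      have := congrArg (fun x => y⁻¹ * x * y) h
      simpa [mul_assoc] using this
    · exfalso
      rw [mul_inv_eq_iff_eq_mul] at h
      exact hyz h
    · exfalso
      apply hsz
      have h3 : y⁻¹ * s * y = s := by rw [mul_assoc, ← hys, inv_mul_cancel_left]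
      have h4 : z = y⁻¹ * (y * z * y⁻¹) * y := by group
      rw [h4, h, h3]
    · exact h
  -- (g)
  have hg : ∀ r ∈ S, r * s = s * r → r * r ≠ z := by
    intro r hr hrs hrr
    have hrB : r ∈ S ⊓ Subgroup.centralizer ({s} : Set G) := ⟨hr, mem_cent.2 hrs⟩
    have h1 := (Subgroup.mem_normalizer_iff.1 hyN r).1 hrB
    obtain ⟨r', hr'⟩ : ∃ r', r' = y * r * y⁻¹ := ⟨_, rfl⟩
    rw [← hr'] at h1
    have h2 : r' * r' = s * z := by
      have : r' * r' = y * (r * r) * y⁻¹ := by rw [hr']; group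
      rw [this, hrr, hyzy]
    have h3 : r' * s = s * r' := mem_cent.1 h1.2
    apply hszne
    rcases hor r' h1.1 with h | h
    · rw [← h2]
      exact (Commute.mul_left (show Commute r' e from h) h)
    · have h4 : (s * r') * (s * r') = s * z := by
        calc (s * r') * (s * r') = s * (r' * s) * r' := by group
          _ = (s * s) * (r' * r') := by rw [h3]; group
          _ = s * z := by rw [hs2, one_mul, h2]
      rw [← h4]
      exact (Commute.mul_left (show Commute (s * r') e from h) h)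
  exact dihedral_aux hS.1 hSz hz2 hsS hs2 heS he2 hse hd hg haS ha2 hae ha1 haz hane haze

/-- **Claim (6).** -/
theorem central [Finite G] (hF : Fun G)
    (hT1 : ∀ t : G, orderOf t = 2 → ∃ A : Subgroup G, Big A ∧ t ∈ A) {z s : G} {S : Subgroup G}
    (hS : IsMaxP 2 (Subgroup.centralizer ({z} : Set G)) S)
    (hz2 : z * z = 1) (hz1 : z ≠ 1) (hs2 : s * s = 1) (hs1 : s ≠ 1) (hsz : s ≠ z)
    (hszc : s * z = z * s) :
    ∃ A : Subgroup G, Big A ∧ z ∈ A ∧ s ∈ A := by
  have hbot : IsPGroup 2 (⊥ : Subgroup G) := IsPGroup.of_bot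
  obtain ⟨B, hB, _⟩ := exists_isMaxP (p := 2) hbot
    (bot_le : (⊥ : Subgroup G) ≤
      Subgroup.centralizer ({z} : Set G) ⊓ Subgroup.centralizer ({s} : Set G))
  have hsB : s ∈ B := mem_of_central hB ⟨mem_cent.2 hszc, mem_cent.2 rfl⟩ hs2
    (fun c hc => mem_cent.1 hc.2)
  obtain ⟨c, hc, hle⟩ := hS.exists_conj_le hB.1 (hB.2.1.trans inf_le_left)
  have hcz : c * z * c⁻¹ = z := by rw [mem_cent.1 hc, mul_inv_cancel_right]
  obtain ⟨s', hs'⟩ : ∃ s', s' = c * s * c⁻¹ := ⟨_, rfl⟩
  have hs'2 : s' * s' = 1 := by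
    have : s' * s' = c * (s * s) * c⁻¹ := by rw [hs']; group
    rw [this, hs2]; group
  have hs'1 : s' ≠ 1 := by
    intro h
    apply hs1
    have := congrArg (fun x => c⁻¹ * x * c) (hs'.symm.trans h)
    simpa [mul_assoc] using this
  have hs'z : s' ≠ z := by
    intro h
    apply hsz
    have := congrArg (fun x => c⁻¹ * x * c) ((hs'.symm.trans h).trans hcz.symm)
    simpa [mul_assoc] using this
  have hs'S : s' ∈ S := hle ⟨s, hsB, hs'.symm⟩
  have hmap : (Subgroup.centralizer ({z} : Set G) ⊓ Subgroup.centralizer ({s} : Set G)).map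
      (MulAut.conj c).toMonoidHom =
      Subgroup.centralizer ({z} : Set G) ⊓ Subgroup.centralizer ({s'} : Set G) := by
    ext x
    rw [mem_map_conj]
    constructor
    · rintro ⟨h1, h2⟩
      refine ⟨mem_cent.2 ?_, mem_cent.2 ?_⟩
      · have h3 : Commute (c⁻¹ * x * c) z := mem_cent.1 h1
        have h4 : Commute (c * (c⁻¹ * x * c) * c⁻¹) (c * z * c⁻¹) := h3.map (MulAut.conj c)
        rw [hcz] at h4
        have h5 : c * (c⁻¹ * x * c) * c⁻¹ = x := by group
        rwa [h5] at h4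
      · have h3 : Commute (c⁻¹ * x * c) s := mem_cent.1 h2
        have h4 : Commute (c * (c⁻¹ * x * c) * c⁻¹) (c * s * c⁻¹) := h3.map (MulAut.conj c)
        rw [← hs'] at h4
        have h5 : c * (c⁻¹ * x * c) * c⁻¹ = x := by group
        rwa [h5] at h4
    · rintro ⟨h1, h2⟩
      refine ⟨mem_cent.2 ?_, mem_cent.2 ?_⟩
      · have h3 : Commute x (c * z * c⁻¹) := by rw [hcz]; exact mem_cent.1 h1
        have h4 : Commute (c⁻¹ * x * c⁻¹⁻¹) (c⁻¹ * (c * z * c⁻¹) * c⁻¹⁻¹) :=
          h3.map (MulAut.conj c⁻¹)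
        have h5 : c⁻¹ * (c * z * c⁻¹) * c⁻¹⁻¹ = z := by group
        rwa [h5, inv_inv] at h4
      · have h3 : Commute x (c * s * c⁻¹) := by rw [← hs']; exact mem_cent.1 h2
        have h4 : Commute (c⁻¹ * x * c⁻¹⁻¹) (c⁻¹ * (c * s * c⁻¹) * c⁻¹⁻¹) :=
          h3.map (MulAut.conj c⁻¹)
        have h5 : c⁻¹ * (c * s * c⁻¹) * c⁻¹⁻¹ = s := by group
        rwa [h5, inv_inv] at h4
  have hB' := hB.map_conj c
  rw [hmap] at hB'
  have hSB : B.map (MulAut.conj c).toMonoidHom = S ⊓ Subgroup.centralizer ({s'} : Set G) := by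
    apply le_antisymm
    · exact le_inf hle (hB'.2.1.trans inf_le_right)
    · refine hB'.2.2 _ (hS.1.to_le inf_le_left) (le_inf (inf_le_left.trans hS.2.1) inf_le_right)
        (le_inf hle (hB'.2.1.trans inf_le_right))
  rw [hSB] at hB'
  obtain ⟨A, hA, hzA, hsA⟩ := central_aux hF hT1 hS hz2 hz1 hs'2 hs'1 hs'z hs'S hB'
  refine ⟨A.map (MulAut.conj c⁻¹).toMonoidHom, big_map hA (MulAut.conj c⁻¹).injective, ?_, ?_⟩
  · rw [mem_map_conj, inv_inv, hcz]; exact hzA
  · rw [mem_map_conj, inv_inv, ← hs']; exact hsA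

end Cfsg.Agent.Dichotomy.Central
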