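import Cfsg.Prelude.Def_Local
import Cfsg.Agent.Lib.Cores
import Cfsg.Agent.Lib.SylowNormalInf
import Cfsg.Agent.Lib.CoprimeStab
import Cfsg.Agent.SignalizersComponents.PConstrained
import Cfsg.Agent.SignalizersComponents.CharP
import Cfsg.Agent.SignalizersComponents.RelSylow

/-!
# The subgroup `O_{2',2}(X)` of a `2`-constrained group

Elementwise facts about `M = O_{p',p}(X)` and `Q = T ∩ M`, `T` a Sylow `p`-subgroup, when
`X / O_{p'}(X)` has characteristic `p`.
-/

set_option autoImplicit false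

namespace Cfsg.Agent.Dichotomy.Constraint

open Cfsg
open Cfsg.Agent.Lib.Cores
open Cfsg.Agent.SignalizersComponents
open scoped commutatorElement

section

variable {X : Type*} [Group X] [Finite X] {p : ℕ} [hp : Fact p.Prime]

/-- `O_{p',p}(X)` is generated by `O_{p'}(X)` and `P ∩ O_{p',p}(X)`. -/
theorem map_inf_eq (P : Sylow p X) :
    ((P : Subgroup X) ⊓ pPrimePCore p X).map (QuotientGroup.mk' (pPrimeCore p X)) =
      pCore p (X ⧸ pPrimeCore p X) := by
  have := PConstrained.pPrimePCore_normal (G := X) p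
  have h := PConstrained.map_sylow_pPrimePCore p
    ((Lib.SylowNormalInf.isPGroup_subgroupOf P (pPrimePCore p X)).toSylow
      (Lib.SylowNormalInf.not_dvd_relIndex P (pPrimePCore p X)))
  have h2 : (((Lib.SylowNormalInf.isPGroup_subgroupOf P (pPrimePCore p X)).toSylow
      (Lib.SylowNormalInf.not_dvd_relIndex P (pPrimePCore p X)) :
        Sylow p ↥(pPrimePCore p X)) : Subgroup ↥(pPrimePCore p X)).map
        (pPrimePCore p X).subtype = (P : Subgroup X) ⊓ pPrimePCore p X :=
    Subgroup.subgroupOf_map_subtype _ _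
  rw [h2] at h
  exact h

/-- every element of `O_{p',p}(X)` is `q * o` with `q ∈ P ∩ O_{p',p}(X)`, `o ∈ O_{p'}(X)` -/
theorem exists_mul_of_mem (P : Sylow p X) {x : X} (hx : x ∈ pPrimePCore p X) :
    ∃ q ∈ (P : Subgroup X) ⊓ pPrimePCore p X, ∃ o ∈ pPrimeCore p X, x = q * o := by
  have h1 : QuotientGroup.mk' (pPrimeCore p X) x ∈ pCore p (X ⧸ pPrimeCore p X) := hx
  rw [← map_inf_eq P] at h1
  obtain ⟨q, hq, hqx⟩ := h1
  refine ⟨q, hq, q⁻¹ * x, ?_, by group⟩
  rw [← QuotientGroup.eq_one_iff]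
  have : (QuotientGroup.mk' (pPrimeCore p X)) (q⁻¹ * x) = 1 := by
    rw [map_mul, map_inv, hqx, inv_mul_cancel]
  exact this

/-- Frattini argument for `Q = P ∩ O_{p',p}(X)`. -/
theorem frattini (P : Sylow p X) (x : X) :
    ∃ o ∈ pPrimeCore p X,
      ∃ n ∈ Subgroup.normalizer (((P : Subgroup X) ⊓ pPrimePCore p X : Subgroup X) : Set X),
        x = o * n := by
  have := PConstrained.pPrimePCore_normal (G := X) p
  have h := Lib.SylowNormalInf.normalizer_inf_sup_eq_top P (pPrimePCore p X)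
  have hx : x⁻¹ ∈ Subgroup.normalizer
      (((P : Subgroup X) ⊓ pPrimePCore p X : Subgroup X) : Set X) ⊔ pPrimePCore p X := by
    rw [h]; trivial
  obtain ⟨n, hn, m, hm, hnm⟩ := Subgroup.mem_sup_of_normal_right.1 hx
  obtain ⟨q, hq, o, ho, rfl⟩ := exists_mul_of_mem P hm
  refine ⟨o⁻¹, inv_mem ho, (n * q)⁻¹, ?_, ?_⟩
  · exact inv_mem (mul_mem hn (Subgroup.le_normalizer hq))
  · rw [← mul_inv_rev, ← inv_inj (a := x), ← hnm, inv_inv]
    group

omit [Finite X] in
/-- odd order subgroups of `O_{p',p}(X)` lie in `O_{p'}(X)` -/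
theorem le_pPrimeCore_of_le {Y : Subgroup X} (hY : Y ≤ pPrimePCore p X)
    (hcard : ¬ p ∣ Nat.card Y) : Y ≤ pPrimeCore p X := by
  intro y hy
  rw [← QuotientGroup.eq_one_iff]
  have h1 : QuotientGroup.mk' (pPrimeCore p X) y ∈ pCore p (X ⧸ pPrimeCore p X) := hY hy
  have h2 : IsPGroup p (pCore p (X ⧸ pPrimeCore p X)) := pCore_isPGroup p
  obtain ⟨k, hk⟩ := (IsPGroup.iff_orderOf.mp h2) ⟨_, h1⟩
  rw [Subgroup.orderOf_mk] at hk
  have h3 : orderOf (QuotientGroup.mk' (pPrimeCore p X) y) ∣ orderOf y :=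
    orderOf_map_dvd _ y
  have h4 : orderOf y ∣ Nat.card Y := by
    have := orderOf_dvd_natCard (⟨y, hy⟩ : Y)
    rwa [Subgroup.orderOf_mk] at this
  have h5 : k = 0 := by
    by_contra hk0
    exact hcard ((dvd_pow_self p hk0).trans (hk ▸ (h3.trans h4)))
  rw [h5, pow_zero, orderOf_eq_one_iff] at hk
  exact hk

variable (hX : Subgroup.centralizer (pCore p (X ⧸ pPrimeCore p X) : Set (X ⧸ pPrimeCore p X)) ≤
    pCore p (X ⧸ pPrimeCore p X))

include hX

/-- elements centralising `P ∩ O_{p',p}(X)` lie in `O_{p',p}(X)` -/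
theorem mem_of_commute (P : Sylow p X) {x : X}
    (hx : ∀ q ∈ (P : Subgroup X) ⊓ pPrimePCore p X, x * q = q * x) : x ∈ pPrimePCore p X := by
  change QuotientGroup.mk' (pPrimeCore p X) x ∈ pCore p (X ⧸ pPrimeCore p X)
  apply hX
  rw [Subgroup.mem_centralizer_iff]
  intro y hy
  have hy' : y ∈ pCore p (X ⧸ pPrimeCore p X) := hy
  rw [← map_inf_eq P] at hy'
  obtain ⟨q, hq, rfl⟩ := hy'
  rw [← map_mul, ← map_mul, hx q hq]

/-- elements acting on `P ∩ O_{p',p}(X)` by multiplication by powers of a central `p`-element `s`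
lie in `O_{p',p}(X)`. -/
theorem mem_of_commute_mod (P : Sylow p X) {s e : X} (hs : ∀ x : X, s * x = x * s)
    (hsp : s ^ p = 1)
    (he : ∀ q ∈ (P : Subgroup X) ⊓ pPrimePCore p X, ∃ k : ℕ, e * q * e⁻¹ = s ^ k * q) :
    e ∈ pPrimePCore p X := by
  set π := QuotientGroup.mk' (pPrimeCore p X) with hπ
  set Q := pCore p (X ⧸ pPrimeCore p X) with hQ
  -- the normal subgroup of all elements acting in this way
  let N : Subgroup (X ⧸ pPrimeCore p X) :=
    { carrier := {x | ∀ q ∈ Q, ∃ k : ℕ, x * q * x⁻¹ = (π s) ^ k * q}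
      one_mem' := by
        intro q _
        exact ⟨0, by simp⟩
      mul_mem' := by
        intro x y hx hy q hq
        obtain ⟨k, hk⟩ := hy q hq
        obtain ⟨l, hl⟩ := hx q hq
        refine ⟨k + l, ?_⟩
        have hsx : x * (π s) ^ k = (π s) ^ k * x := by
          obtain ⟨x', rfl⟩ := QuotientGroup.mk'_surjective _ x
          rw [← hπ, ← map_pow, ← map_mul, ← map_mul]
          have : Commute s x' := hs x'
          rw [(this.pow_left k).eq]
        calc x * y * q * (x * y)⁻¹ = x * (y * q * y⁻¹) * x⁻¹ := by group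
          _ = (x * (π s) ^ k) * q * x⁻¹ := by rw [hk]; group
          _ = (π s) ^ k * (x * q * x⁻¹) := by rw [hsx]; group
          _ = (π s) ^ (k + l) * q := by rw [hl, pow_add, mul_assoc]
      inv_mem' := by
        intro x hx q hq
        have hq' : x⁻¹ * q * x ∈ Q := by
          have := (Lib.Cores.pCore_normal (G := X ⧸ pPrimeCore p X) p).conj_mem q hq x⁻¹
          rwa [inv_inv] at this
        obtain ⟨k, hk⟩ := hx _ hq'
        refine ⟨(p - 1) * k, ?_⟩
        have h1 : q = (π s) ^ k * (x⁻¹ * q * x) := by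
          rw [← hk]; group
        have h2 : (π s) ^ ((p - 1) * k) * (π s) ^ k = 1 := by
          rw [← pow_add]
          have : (p - 1) * k + k = p * k := by
            have := hp.out.one_lt
            obtain ⟨m, rfl⟩ := Nat.exists_eq_add_of_lt this
            simp; ring
          rw [this, pow_mul, ← map_pow, hsp, map_one, one_pow]
        calc x⁻¹ * q * x⁻¹⁻¹ = ((π s) ^ ((p - 1) * k) * (π s) ^ k) * (x⁻¹ * q * x) := by
              rw [h2]; group
          _ = (π s) ^ ((p - 1) * k) * ((π s) ^ k * (x⁻¹ * q * x)) := by group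
          _ = (π s) ^ ((p - 1) * k) * q := by rw [← h1] }
  have hNn : N.Normal := by
    refine ⟨fun x hx g => ?_⟩
    intro q hq
    have hq' : g⁻¹ * q * g ∈ Q := by
      have := (Lib.Cores.pCore_normal (G := X ⧸ pPrimeCore p X) p).conj_mem q hq g⁻¹
      rwa [inv_inv] at this
    obtain ⟨k, hk⟩ := hx _ hq'
    refine ⟨k, ?_⟩
    have hsx : g * (π s) ^ k = (π s) ^ k * g := by
      obtain ⟨x', rfl⟩ := QuotientGroup.mk'_surjective _ g
      rw [← hπ, ← map_pow, ← map_mul, ← map_mul]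
      have : Commute s x' := hs x'
      rw [(this.pow_left k).eq]
    calc g * x * g⁻¹ * q * (g * x * g⁻¹)⁻¹ = g * (x * (g⁻¹ * q * g) * x⁻¹) * g⁻¹ := by group
      _ = (g * (π s) ^ k) * (g⁻¹ * q * g) * g⁻¹ := by rw [hk]; group
      _ = (π s) ^ k * q := by rw [hsx]; group
  have hNle : N ≤ pCore p (X ⧸ pPrimeCore p X) := by
    refine CharP.le_pCore_of_forall hNn ?_
    intro x hx hcop
    have hQp : IsPGroup p Q := pCore_isPGroup p
    have hcopQ : (orderOf x).Coprime (Nat.card Q) := by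
      obtain ⟨n, hn⟩ := IsPGroup.iff_card.mp hQp
      rw [hn]
      exact Nat.Coprime.pow_right n hcop
    have hcent : x ∈ Subgroup.centralizer (Q : Set (X ⧸ pPrimeCore p X)) := by
      rw [Subgroup.mem_centralizer_iff]
      intro q hq
      obtain ⟨k, hk⟩ := hx q hq
      have hsx : Commute ((π s) ^ k) x := by
        obtain ⟨x', rfl⟩ := QuotientGroup.mk'_surjective _ x
        rw [← hπ, ← map_pow]
        have : Commute s x' := hs x'
        exact (this.pow_left k).map π
      have hsx' : Commute ((π s) ^ k) q := by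
        obtain ⟨x', rfl⟩ := QuotientGroup.mk'_surjective _ q
        rw [← hπ, ← map_pow]
        have : Commute s x' := hs x'
        exact (this.pow_left k).map π
      -- the commutator `[q, x] = s ^ (-k)`
      have hcomm : ⁅q, x⁆ = ((π s) ^ k)⁻¹ := by
        have h1 : x * q⁻¹ * x⁻¹ = (x * q * x⁻¹)⁻¹ := by group
        rw [commutatorElement_def, mul_assoc, mul_assoc, ← mul_assoc x, h1, hk, mul_inv_rev,
          ← mul_assoc, mul_inv_cancel, one_mul]
      have hmem : ⁅q, x⁆ ∈ Q := by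
        rw [commutatorElement_def]
        have h1 : x * q⁻¹ * x⁻¹ ∈ Q :=
          (Lib.Cores.pCore_normal (G := X ⧸ pPrimeCore p X) p).conj_mem _ (inv_mem hq) x
        have := mul_mem hq h1
        simpa [mul_assoc] using this
      have h2 : Commute ⁅q, x⁆ x := by rw [hcomm]; exact hsx.inv_left
      exact (Lib.CoprimeStab.commute_of_commutator_commute hcopQ hmem h2)
    have hxQ : x ∈ Q := hX hcent
    have h3 : orderOf x ∣ Nat.card Q := by
      have := orderOf_dvd_natCard (⟨x, hxQ⟩ : Q)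
      rwa [Subgroup.orderOf_mk] at this
    have h4 : orderOf x = 1 := by
      have := Nat.dvd_gcd (dvd_refl _) h3
      rw [Nat.Coprime.gcd_eq_one hcopQ] at this
      exact Nat.dvd_one.mp this
    exact orderOf_eq_one_iff.mp h4
  change π e ∈ pCore p (X ⧸ pPrimeCore p X)
  apply hNle
  intro q hq
  have hq' : q ∈ pCore p (X ⧸ pPrimeCore p X) := hq
  rw [← map_inf_eq P] at hq'
  obtain ⟨q', hq', rfl⟩ := hq'
  obtain ⟨k, hk⟩ := he q' hq'
  refine ⟨k, ?_⟩
  rw [← hπ, ← map_mul, ← map_inv, ← map_mul, hk, map_mul, map_pow]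

end

end Cfsg.Agent.Dichotomy.Constraint
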