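import Cfsg.Agent.Dichotomy.KeyAux
import Cfsg.Agent.S0058
import Cfsg.Agent.SignalizersComponents.CoprimeFix

/-!
# The key step: `C_G(s)` normalises `W_T` for `T` a Sylow `2`-subgroup of `C_G(s)`
-/

set_option autoImplicit false

namespace Cfsg.Agent.Dichotomy.Key

open Cfsg
open Cfsg.Agent.Dichotomy.Elem
open Cfsg.Agent.Dichotomy.Functor
open Cfsg.Agent.Dichotomy.Local
open Cfsg.Agent.Dichotomy.KeyAux
open Cfsg.Agent.SignalizersComponents.RelSylow

variable {G : Type*} [Group G]

theorem mem_cent {s x : G} : x ∈ Subgroup.centralizer ({s} : Set G) ↔ x * s = s * x :=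
  Subgroup.mem_centralizer_singleton_iff

/-- a central `p`-element of `C` lies in every maximal `p`-subgroup of `C` -/
theorem mem_of_central [Finite G] {C T : Subgroup G} (hT : IsMaxP 2 C T) {x : G} (hxC : x ∈ C)
    (hx2 : x * x = 1) (hx : ∀ c ∈ C, c * x = x * c) : x ∈ T := by
  have hz : IsPGroup 2 (Subgroup.zpowers x) := by
    by_cases h1 : x = 1
    · rw [h1, Subgroup.zpowers_one_eq_bot]
      exact IsPGroup.of_bot
    · refine IsPGroup.of_card (n := 1) ?_
      rw [Nat.card_zpowers, orderOf_two hx2 h1, pow_one]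
  obtain ⟨c, hc, hle⟩ := hT.exists_conj_le hz (by rwa [Subgroup.zpowers_le])
  have h1 : c * x * c⁻¹ ∈ T := hle ⟨x, Subgroup.mem_zpowers x, rfl⟩
  rwa [hx c hc, mul_inv_cancel_right] at h1

/-- `C_W(a) ≤ O(C_G(a))` when `s ∈ O_{2',2}(C_G(a))` and `C_W(s) ≤ O(C_G(s))`. -/
theorem inf_le_th [Finite G] (hF : Fun G) {V : Subgroup G} (hV : ¬ 2 ∣ Nat.card V) {s a : G}
    (hs : orderOf s = 2) (ha : orderOf a = 2) (hsa : s * a = a * s)
    (hsN : s ∈ Subgroup.normalizer (V : Set G))
    (hfix : V ⊓ Subgroup.centralizer ({s} : Set G) ≤ centralizerPPrimeCore 2 s)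
    (hsM : s ∈ M a) :
    V ⊓ Subgroup.centralizer ({a} : Set G) ≤ centralizerPPrimeCore 2 a := by
  intro y hy
  have hyV := hy.1
  have hya := hy.2
  have hsC : s ∈ Subgroup.centralizer ({a} : Set G) := mem_cent.2 hsa
  have hle : Subgroup.zpowers s ≤ M a := by rw [Subgroup.zpowers_le]; exact hsM
  have hleN : Subgroup.zpowers s ≤ Subgroup.normalizer (V : Set G) := by
    rw [Subgroup.zpowers_le]; exact hsN
  have hleC : Subgroup.zpowers s ≤ Subgroup.centralizer ({a} : Set G) := by
    rw [Subgroup.zpowers_le]; exact hsC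
  have hthn := SignalizersComponents.CoreOfCentralizer.centralizer_le_normalizer_centralizerPPrimeCore
    2 a
  have hoddM : V ⊓ M a ≤ centralizerPPrimeCore 2 a :=
    le_th inf_le_right (fun h => hV (h.trans (Subgroup.card_dvd_of_le inf_le_left)))
  set P := Subgroup.zpowers s with hP
  have hPp : IsPGroup 2 P := by
    refine IsPGroup.of_card (n := 1) ?_
    rw [hP, Nat.card_zpowers, hs, pow_one]
  set V' := V ⊓ centralizerPPrimeCore 2 a with hV'
  have hV'odd : ¬ 2 ∣ Nat.card V' := fun h => hV (h.trans (Subgroup.card_dvd_of_le inf_le_left))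
  obtain ⟨y', hy'1, hy'2⟩ := SignalizersComponents.CoprimeFix.exists_fixed_in_coset P hPp V' hV'odd
    (by
      intro b hb w hw
      exact ⟨(Subgroup.mem_normalizer_iff.1 (hleN hb) w).1 hw.1,
        (Subgroup.mem_normalizer_iff.1 (hthn (hleC hb)) w).1 hw.2⟩) y
    (by
      intro b hb
      have h1 : y⁻¹ * (b * y * b⁻¹) ∈ V :=
        mul_mem (inv_mem hyV) ((Subgroup.mem_normalizer_iff.1 (hleN hb) y).1 hyV)
      have h2 : y⁻¹ * (b * y * b⁻¹) ∈ M a := by
        have h3 : y⁻¹ * b * y ∈ M a := by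
          have := conj_mem_MM (inv_mem hya) (hle hb)
          rwa [inv_inv] at this
        have h4 : y⁻¹ * (b * y * b⁻¹) = (y⁻¹ * b * y) * b⁻¹ := by group
        rw [h4]
        exact mul_mem h3 (inv_mem (hle hb))
      exact ⟨h1, hoddM ⟨h1, h2⟩⟩)
  have hy's : y' * s = s * y' := by
    have := hy'2 s (Subgroup.mem_zpowers s)
    rw [mul_inv_eq_iff_eq_mul] at this
    exact this.symm
  have hy'V : y' ∈ V := by
    have := mul_mem hyV hy'1.1
    rwa [mul_inv_cancel_left] at this
  have hy'a : y' ∈ Subgroup.centralizer ({a} : Set G) := by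
    have := mul_mem hya (th_le a hy'1.2)
    rwa [mul_inv_cancel_left] at this
  have h5 : y' ∈ centralizerPPrimeCore 2 a :=
    hF.bal s a hs ha hsa ⟨hfix ⟨hy'V, mem_cent.2 hy's⟩, hy'a⟩
  have h6 : y = y' * (y⁻¹ * y')⁻¹ := by group
  rw [h6]
  exact mul_mem h5 (inv_mem hy'1.2)

/-- `s ∈ O_{2',2}(C_G(e))` -/
theorem claimC [Finite G] {s e f : G} {T : Subgroup G} (hcon : Constr e)
    (hT : IsMaxP 2 (Subgroup.centralizer ({s} : Set G)) T)
    (hs2 : s * s = 1) (hs1 : s ≠ 1) (hsT : s ∈ T)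
    (heT : e ∈ T) (he2 : e * e = 1) (he1 : e ≠ 1) (hes : e ≠ s) (hfT : f ∈ T)
    (hen : ∀ t ∈ T, t * e * t⁻¹ = e ∨ t * e * t⁻¹ = s * e)
    (hfe : f * e * f⁻¹ = s * e)
    (hB : ∀ y ∈ T, y * y = 1 → (∀ t ∈ T, t * e = e * t → y * t = t * y) →
      y = 1 ∨ y = s ∨ y = e ∨ y = s * e)
    (hcent : ∀ x ∈ T, x * x = 1 → (∀ t ∈ T, x * t = t * x) → x = 1 ∨ x = s)
    (heM : e ∈ M s) : s ∈ M e := by
  have hTs : ∀ t ∈ T, t * s = s * t := fun t ht => mem_cent.1 (hT.2.1 ht)
  have hse : s * e = e * s := (hTs e heT).symm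
  set T₀ := T ⊓ Subgroup.centralizer ({e} : Set G) with hT₀
  have hT₀p : IsPGroup 2 T₀ := hT.1.to_le inf_le_left
  obtain ⟨Te, hTe, hT₀Te⟩ := exists_isMaxP (p := 2) hT₀p
    (inf_le_right : T₀ ≤ Subgroup.centralizer ({e} : Set G))
  have hTee : ∀ t ∈ Te, t * e = e * t := fun t ht => mem_cent.1 (hTe.2.1 ht)
  by_cases hall : ∀ t ∈ Te, t * s = s * t
  · refine mem_M_of_commute hTe hcon (mem_cent.2 hse) ?_
    intro q hq
    exact (hall q hq.1).symm
  · push Not at hall
    obtain ⟨t, htTe, hts⟩ := hall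
    have hne : ¬ Te ≤ T₀ := fun h => hts (hTs t (h htTe).1)
    obtain ⟨y, hyTe, hyN, hyT₀⟩ := exists_mem_normalizer hTe.1 hT₀Te hne
    have hye := hTee y hyTe
    have hsT₀ : s ∈ T₀ := ⟨hsT, mem_cent.2 hse⟩
    have hyN' : y⁻¹ ∈ Subgroup.normalizer (T₀ : Set G) := inv_mem hyN
    obtain ⟨s', hs'⟩ : ∃ s', s' = y * s * y⁻¹ := ⟨_, rfl⟩
    have hs'T₀ : s' ∈ T₀ := hs' ▸ (Subgroup.mem_normalizer_iff.1 hyN s).1 hsT₀
    have hs'2 : s' * s' = 1 := by
      have : s' * s' = y * (s * s) * y⁻¹ := by rw [hs']; group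
      rw [this, hs2]; group
    have hs'c : ∀ t ∈ T, t * e = e * t → s' * t = t * s' := by
      intro t ht hte
      have h1 : y⁻¹ * t * y ∈ T₀ := by
        have := (Subgroup.mem_normalizer_iff.1 hyN' t).1 ⟨ht, mem_cent.2 hte⟩
        rwa [inv_inv] at this
      have h2 : Commute s (y⁻¹ * t * y) := (hTs _ h1.1).symm
      have h3 : Commute (y * s * y⁻¹) (y * (y⁻¹ * t * y) * y⁻¹) := h2.map (MulAut.conj y)
      have h4 : y * (y⁻¹ * t * y) * y⁻¹ = t := by group
      rw [h4, ← hs'] at h3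
      exact h3
    have hs'1 : s' ≠ 1 := by
      intro h
      rw [hs', mul_inv_eq_iff_eq_mul, one_mul] at h
      exact hs1 (by simpa using h)
    have hs'e : s' ≠ e := by
      intro h
      rw [hs', mul_inv_eq_iff_eq_mul, ← hye] at h
      exact hes (mul_left_cancel h).symm
    rcases hB s' hs'T₀.1 hs'2 hs'c with h | h | h | h
    · exact absurd h hs'1
    · -- `y` commutes with `s`
      exfalso
      have hys : y * s = s * y := by
        rw [hs', mul_inv_eq_iff_eq_mul] at h
        exact h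
      set T' := Te ⊓ Subgroup.centralizer ({s} : Set G) with hT'
      have hT'p : IsPGroup 2 T' := hTe.1.to_le inf_le_left
      have hT₀T' : T₀ ≤ T' := le_inf hT₀Te (fun x hx => mem_cent.2 (hTs x hx.1))
      have hyT' : y ∈ T' := ⟨hyTe, mem_cent.2 hys⟩
      have hcard1 : Nat.card T ≤ 2 * Nat.card T₀ := by
        refine card_le_two f ?_
        intro t ht
        rcases hen t ht with h | h
        · left
          rw [mul_inv_eq_iff_eq_mul] at h
          exact ⟨ht, mem_cent.2 h⟩
        · right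
          refine ⟨mul_mem hfT ht, mem_cent.2 ?_⟩
          rw [← mul_inv_eq_iff_eq_mul]
          have h3 : f * t * e * (f * t)⁻¹ = f * (t * e * t⁻¹) * f⁻¹ := by group
          have h4 : f * (s * e) * f⁻¹ = s * (f * e * f⁻¹) := by
            rw [← mul_assoc, hTs f hfT]; group
          rw [h3, h, h4, hfe, ← mul_assoc, hs2, one_mul]
      have hcard2 : 2 * Nat.card T₀ ≤ Nat.card T' := by
        obtain ⟨k, hk⟩ := Subgroup.card_dvd_of_le hT₀T'
        have hlt : Nat.card T₀ < Nat.card T' := by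
          refine lt_of_le_of_ne (Subgroup.card_le_of_le hT₀T') ?_
          intro h
          have := Subgroup.eq_of_le_of_card_ge hT₀T' h.ge
          exact hyT₀ (this ▸ hyT')
        have hpos : 0 < Nat.card T₀ := Nat.card_pos
        rcases k with _ | _ | k
        · omega
        · omega
        · rw [hk]
          nlinarith
      obtain ⟨T'', hT'', hle''⟩ := exists_isMaxP (p := 2) hT'p
        (inf_le_right : T' ≤ Subgroup.centralizer ({s} : Set G))
      have hcard3 := hT''.card_eq hT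
      have hTT : T' = T'' := Subgroup.eq_of_le_of_card_ge hle'' (by omega)
      obtain ⟨c, hc, hcT⟩ := hT''.exists_conj hT
      have heT' : e ∈ T' := hT₀T' ⟨heT, mem_cent.2 rfl⟩
      have hxT : c * e * c⁻¹ ∈ T := by
        rw [← hcT]
        exact ⟨e, hTT ▸ heT', rfl⟩
      have hcs : c * s = s * c := mem_cent.1 hc
      have h5 := hcent (c * e * c⁻¹) hxT (by
          have : c * e * c⁻¹ * (c * e * c⁻¹) = c * (e * e) * c⁻¹ := by group
          rw [this, he2]; group) (by
        intro t ht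
        rw [← hcT] at ht
        obtain ⟨r, hr, rfl⟩ := ht
        have hr' : r ∈ T' := by rw [hTT]; exact hr
        have h6 : Commute e r := (hTee r hr'.1).symm
        exact h6.map (MulAut.conj c))
      rcases h5 with h5 | h5
      · apply he1
        have := congrArg (fun x => c⁻¹ * x * c) h5
        simpa [mul_assoc] using this
      · apply hes
        have := congrArg (fun x => c⁻¹ * x * c) h5
        have h7 : c⁻¹ * s * c = s := by rw [mul_assoc, ← hcs]; group
        simp only [h7] at this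
        simpa [mul_assoc] using this
    · exact absurd h hs'e
    · -- `g = f y f` swaps `s` and `e`
      have hys : y * s * y⁻¹ = s * e := by rw [← hs']; exact h
      have hye' : y * e * y⁻¹ = e := by rw [hye]; group
      have hfs : f * s * f⁻¹ = s := by rw [hTs f hfT]; group
      have g1 : (f * y * f) * s * (f * y * f)⁻¹ = e := by
        calc (f * y * f) * s * (f * y * f)⁻¹ = f * (y * (f * s * f⁻¹) * y⁻¹) * f⁻¹ := by group
          _ = f * (s * e) * f⁻¹ := by rw [hfs, hys]
          _ = (f * s * f⁻¹) * (f * e * f⁻¹) := by group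
          _ = (s * s) * e := by rw [hfs, hfe, mul_assoc]
          _ = e := by rw [hs2, one_mul]
      have g2 : (f * y * f) * e * (f * y * f)⁻¹ = s := by
        calc (f * y * f) * e * (f * y * f)⁻¹ = f * (y * (f * e * f⁻¹) * y⁻¹) * f⁻¹ := by group
          _ = f * ((y * s * y⁻¹) * (y * e * y⁻¹)) * f⁻¹ := by rw [hfe]; group
          _ = f * (s * (e * e)) * f⁻¹ := by rw [hys, hye', mul_assoc s e e]
          _ = s := by rw [he2, mul_one, hfs]
      have := conj_mem_M (f * y * f) heM
      rwa [g1, g2] at this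

theorem four_mul_right {s f : G} (hs2 : s * s = 1) : four s (s * f) = four s f := by
  apply le_antisymm
  · exact four_le (left_mem_four _ _) (mul_mem (left_mem_four _ _) (right_mem_four _ _))
  · refine four_le (left_mem_four _ _) ?_
    have h : f = s * (s * f) := by rw [← mul_assoc, hs2, one_mul]
    have h2 : s * (s * f) ∈ four s (s * f) := mul_mem (left_mem_four _ _) (right_mem_four _ _)
    rwa [← h] at h2

/-- adjacency: `⟨s, e⟩` and `⟨s, v⟩` commute. -/
theorem W_four_eq [Finite G] (hF : Fun G) {s e v : G} (hs2 : s * s = 1) (he2 : e * e = 1)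
    (hv2 : v * v = 1) (hse : s * e = e * s) (hsv : s * v = v * s) (hev : e * v = v * e)
    (hs1 : s ≠ 1) (he1 : e ≠ 1) (hes : s ≠ e) (hv1 : v ≠ 1) (hvs : v ≠ s) :
    W (four s e) = W (four s v) := by
  by_cases h1 : v = e
  · rw [h1]
  by_cases h2 : v = s * e
  · rw [h2, four_mul_right hs2]
  have hB := big_triple hs2 he2 hv2 hse hsv hev hs1 he1 hes hv1 hvs h1 h2
  rw [W_four hF hB (Subgroup.mem_sup_left (left_mem_four s e))
      (Subgroup.mem_sup_left (right_mem_four s e)) hs1 he1 hes,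
    W_four hF hB (Subgroup.mem_sup_left (left_mem_four s e))
      (Subgroup.mem_sup_right (Subgroup.mem_zpowers v)) hs1 hv1 hvs.symm]

/-- **The key step.** -/
theorem key [Finite G] (hF : Fun G) (hcon : ∀ a : G, orderOf a = 2 → Constr a)
    {s : G} (hs : orderOf s = 2) {T A : Subgroup G}
    (hT : IsMaxP 2 (Subgroup.centralizer ({s} : Set G)) T) (hAT : A ≤ T) (hA : Big A) :
    Subgroup.centralizer ({s} : Set G) ≤ Subgroup.normalizer (WW T : Set G) := by
  have hs2 := sq_of_orderOf hs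
  have hs1 := ne_one_of_orderOf hs
  have hTs : ∀ t ∈ T, t * s = s * t := fun t ht => mem_cent.1 (hT.2.1 ht)
  have hsT : s ∈ T := mem_of_central hT (mem_cent.2 rfl) hs2 (fun c hc => mem_cent.1 hc)
  obtain ⟨e, heT, he2, he1, hes, hen⟩ := exists_e hT.1 hAT hA hsT hs2 hs1 hTs
  have hse : s * e = e * s := (hTs e heT).symm
  have hoe := orderOf_two he2 he1
  obtain ⟨⟨D, hD, hDT, hsD, heD, hWD⟩, _⟩ :=
    rank_lemma hF hAT hA hsT hs2 hs1 hTs heT he2 he1 hes hen
  -- `W_T = W_{⟨s, e⟩}`
  have hWT : WW T = W (four s e) := by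
    rw [WW_eq hF hT.1 hDT hD, W_four hF hD hsD heD hs1 he1 hes.symm]
  have hWD' : WW T = W D := WW_eq hF hT.1 hDT hD
  -- `Q`
  obtain ⟨Q, hQ⟩ : ∃ Q, Q = T ⊓ M s := ⟨_, rfl⟩
  have hQT : Q ≤ T := hQ ▸ inf_le_left
  have hTQ : ∀ t ∈ T, ∀ q ∈ Q, t * q * t⁻¹ ∈ Q := by
    intro t ht q hq
    rw [hQ] at hq ⊢
    have h1 : t * q * t⁻¹ ∈ T := T.mul_mem (T.mul_mem ht hq.1) (T.inv_mem ht)
    exact ⟨h1, conj_mem_MM (hT.2.1 ht) hq.2⟩
  have hsM : s ∈ M s :=
    mem_M_of_commute hT (hcon s hs) (mem_cent.2 rfl) (fun q hq => (hTs q hq.1).symm)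
  have heM : e ∈ M s := by
    refine mem_M_of_commute_mod hT (hcon s hs) hs2 (mem_cent.2 hse.symm) ?_
    intro q hq
    rcases hen q hq.1 with h | h
    · left
      rw [mul_inv_eq_iff_eq_mul] at h ⊢
      exact h.symm
    · right
      rw [mul_inv_eq_iff_eq_mul] at h ⊢
      rw [mul_assoc, h, ← mul_assoc, ← mul_assoc, hs2, one_mul]
  have heQ : e ∈ Q := hQ ▸ ⟨heT, heM⟩
  have hsQ : s ∈ Q := hQ ▸ ⟨hsT, hsM⟩
  -- the main claim
  have main : ∀ c ∈ Subgroup.centralizer ({s} : Set G), (∀ q ∈ Q, c * q * c⁻¹ ∈ Q) →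
      (∀ q ∈ Q, c⁻¹ * q * c ∈ Q) → W (four s (c * e * c⁻¹)) = W (four s e) := by
    intro c hc hcQ hcQ'
    have hcs : c * s = s * c := mem_cent.1 hc
    have hcs' : c * s * c⁻¹ = s := by rw [hcs, mul_inv_cancel_right]
    obtain ⟨f, hf⟩ : ∃ f, f = c * e * c⁻¹ := ⟨_, rfl⟩
    rw [← hf]
    have hfQ : f ∈ Q := hf ▸ hcQ e heQ
    have hfT := hQT hfQ
    have hf2 : f * f = 1 := by
      have : f * f = c * (e * e) * c⁻¹ := by rw [hf]; group
      rw [this, he2]; group
    have hf1 : f ≠ 1 := by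
      intro h
      apply he1
      have := congrArg (fun x => c⁻¹ * x * c) (hf.symm.trans h)
      simpa [mul_assoc] using this
    have hfs1 : f ≠ s := by
      intro h
      apply hes
      have := congrArg (fun x => c⁻¹ * x * c) ((hf.symm.trans h).trans hcs'.symm)
      simpa [mul_assoc] using this
    have hsf : s * f = f * s := (hTs f hfT).symm
    have hof := orderOf_two hf2 hf1
    by_cases hcomm : f * e = e * f
    · exact W_four_eq hF hs2 hf2 he2 hsf hse hcomm hs1 hf1 hfs1.symm he1 hes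
    -- noncommuting case
    by_contra hWne
    have hfe : f * e * f⁻¹ = s * e := by
      refine (hen f hfT).resolve_left ?_
      intro h
      rw [mul_inv_eq_iff_eq_mul] at h
      exact hcomm h
    have hfi : f⁻¹ = f := inv_eq_of_mul_eq_one_left hf2
    have hei : e⁻¹ = e := inv_eq_of_mul_eq_one_left he2
    have hfe' : f * e = s * e * f := by rwa [mul_inv_eq_iff_eq_mul] at hfe
    have hef : e * f * e⁻¹ = s * f := by
      rw [mul_inv_eq_iff_eq_mul]
      have : s * f * e = s * (s * e * f) := by rw [mul_assoc, hfe']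
      rw [this, ← mul_assoc, ← mul_assoc, hs2, one_mul]
    have hfnorm : ∀ q ∈ Q, q * f * q⁻¹ = f ∨ q * f * q⁻¹ = s * f := by
      intro q hq
      have h1 := hen (c⁻¹ * q * c) (hQT (hcQ' q hq))
      have h2 : q * f * q⁻¹ = c * ((c⁻¹ * q * c) * e * (c⁻¹ * q * c)⁻¹) * c⁻¹ := by
        rw [hf]; group
      rcases h1 with h1 | h1
      · left; rw [h2, h1, hf]
      · right
        rw [h2, h1, hf]
        have : c * (s * e) * c⁻¹ = (c * s * c⁻¹) * (c * e * c⁻¹) := by group
        rw [this, hcs']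
    have ha : ∀ v ∈ Q, v * v = 1 → v * e = e * v → v * f = f * v → v = 1 ∨ v = s := by
      intro v hv hv2 hve hvf
      by_contra hcon'
      push Not at hcon'
      apply hWne
      have hsv : s * v = v * s := (hTs v (hQT hv)).symm
      rw [W_four_eq hF hs2 hf2 hv2 hsf hsv hvf.symm hs1 hf1 hfs1.symm hcon'.1 hcon'.2,
        W_four_eq hF hs2 he2 hv2 hse hsv hve.symm hs1 he1 hes.symm hcon'.1 hcon'.2]
    have hcentQ : ∀ x ∈ T, x * x = 1 → (∀ q ∈ Q, x * q = q * x) → x = 1 ∨ x = s := by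
      intro x hx hx2 hxQ
      have hxM : x ∈ M s := by
        refine mem_M_of_commute hT (hcon s hs) (hT.2.1 hx) ?_
        intro q hq
        exact hxQ q (hQ ▸ hq)
      exact ha x (hQ ▸ ⟨hx, hxM⟩) hx2 (hxQ e heQ) (hxQ f hfQ)
    have hB : ∀ y ∈ T, y * y = 1 → (∀ t ∈ T, t * e = e * t → y * t = t * y) →
        y = 1 ∨ y = s ∨ y = e ∨ y = s * e := fun y hyT hy2 hy =>
      claimB hQT heQ hfQ hs2 he2 hf2 hTs hTQ (fun q hq => hen q (hQT hq)) hfnorm hfe hef ha
        hcentQ hyT hy2 hy
    have hsMe : s ∈ M e :=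
      claimC (hcon e hoe) hT hs2 hs1 hsT heT he2 he1 hes hfT hen hfe hB
        (fun x hx hx2 hxT => hcentQ x hx hx2 (fun q hq => hxT q (hQT hq))) heM
    have hsMf : s ∈ M f := by
      have := conj_mem_M c hsMe
      rwa [hcs', ← hf] at this
    have hsMsf : s ∈ M (s * f) := by
      have := conj_mem_M e hsMf
      rw [hef] at this
      have h2 : e * s * e⁻¹ = s := by rw [← hse, mul_inv_cancel_right]
      rwa [h2] at this
    -- `W = W_{⟨s,e⟩}` is contained in `W_{⟨s,f⟩}`
    have hWodd : ¬ 2 ∣ Nat.card (WW T) := by rw [hWD']; exact (complete hF hD).1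
    have hfixs : WW T ⊓ Subgroup.centralizer ({s} : Set G) ≤ centralizerPPrimeCore 2 s := by
      rw [hWD']; exact ((complete hF hD).2 s hsD hs1).le
    have hTN : T ≤ Subgroup.normalizer (WW T : Set G) :=
      Subgroup.le_normalizer.trans (le_normalizer_WW T)
    have hle : ∀ a ∈ four s f, a ≠ 1 →
        WW T ⊓ Subgroup.centralizer ({a} : Set G) ≤ W (four s f) := by
      intro a haF ha1
      refine le_trans ?_ (le_W (four s f) haF ha1)
      rw [mem_four_iff hs2 hf2 hsf] at haF
      rcases haF with h | h | h | h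
      · exact absurd h ha1
      · rw [h]; exact hfixs
      · rw [h]; exact inf_le_th hF hWodd hs hof hsf (hTN hsT) hfixs hsMf
      · have h2 : (s * f) * (s * f) = 1 := by
          calc (s * f) * (s * f) = s * (f * s) * f := by group
            _ = s * (s * f) * f := by rw [hsf]
            _ = (s * s) * (f * f) := by group
            _ = 1 := by rw [hs2, hf2, one_mul]
        have hosf : orderOf (s * f) = 2 := orderOf_two h2 (h ▸ ha1)
        rw [h]
        refine inf_le_th hF hWodd hs hosf ?_ (hTN hsT) hfixs hsMsf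
        rw [mul_assoc, ← hsf, ← mul_assoc]
    have hncyc : ¬ IsCyclic (four s f) := by
      intro hcyc
      obtain ⟨g, hg⟩ := IsCyclic.exists_generator (α := four s f)
      have h3 : orderOf g = Nat.card (four s f) := orderOf_eq_card_of_forall_mem_zpowers hg
      have h4 : g ^ 2 = 1 := by
        ext
        simpa using (elem_four hs2 hf2 hsf).2 g g.2
      have h5 : orderOf g ≤ 2 := orderOf_le_of_pow_eq_one (by norm_num) h4
      rw [h3, card_four hs2 hf2 hsf hs1 hf1 hfs1.symm] at h5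
      omega
    have hcop : (Nat.card (four s f)).Coprime (Nat.card (WW T)) := by
      rw [card_four hs2 hf2 hsf hs1 hf1 hfs1.symm, show 4 = 2 ^ 2 from rfl]
      exact Nat.Coprime.pow_left 2 ((Nat.Prime.coprime_iff_not_dvd Nat.prime_two).2 hWodd)
    have := (elem_four hs2 hf2 hsf).1
    have h7 := Cfsg.Agent.S0058.result (four s f) (WW T) hncyc
      ((four_le hsT hfT).trans hTN) hcop
    have hWle : WW T ≤ W (four s f) := by
      rw [← h7]
      exact iSup₂_le fun a ha => hle a ha.1 ha.2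
    have hmap : (W (four s e)).map (MulAut.conj c).toMonoidHom = W (four s f) := by
      rw [W_four_conj, hcs', ← hf]
    have hcard : Nat.card (W (four s f)) = Nat.card (WW T) := by
      rw [← hmap, card_map_conj, hWT]
    apply hWne
    rw [← hWT]
    exact (Subgroup.eq_of_le_of_card_ge hWle hcard.le).symm
  -- conclusion
  intro c hc
  obtain ⟨o, ho, n, hn, hn1, hn2, rfl⟩ := frattini hT hc
  refine mul_mem ?_ ?_
  · apply Subgroup.le_normalizer
    rw [hWD']
    exact le_W D hsD hs1 ho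
  · apply mem_normalizer_of_map_eq
    have hns : n * s * n⁻¹ = s := by rw [mem_cent.1 hn, mul_inv_cancel_right]
    rw [hWT, W_four_conj, hns]
    refine main n hn ?_ ?_
    · intro q hq; rw [hQ] at hq ⊢; exact hn1 q hq
    · intro q hq; rw [hQ] at hq ⊢; exact hn2 q hq

end Cfsg.Agent.Dichotomy.Key
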