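import Cfsg.Agent.Dichotomy.Local
import Cfsg.Agent.Dichotomy.Functor

/-!
# Auxiliary computations for the key step

`s` is a central involution, `e`, `f` involutions with `f e f⁻¹ = s e`.
-/

set_option autoImplicit false

namespace Cfsg.Agent.Dichotomy.KeyAux

open Cfsg
open Cfsg.Agent.Dichotomy.Elem
open Cfsg.Agent.Dichotomy.Functor
open Cfsg.Agent.Dichotomy.Local
open Cfsg.Agent.SignalizersComponents.RelSylow

variable {G : Type*} [Group G]

/-- `x` commutes with `e`, `f` and with the elements of `Q` commuting with both, then `x`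
commutes with `Q`. -/
theorem gen {Q : Subgroup G} {s e f : G} (heQ : e ∈ Q) (hfQ : f ∈ Q) (hs2 : s * s = 1)
    (hsQ : ∀ q ∈ Q, q * s = s * q)
    (he : ∀ q ∈ Q, q * e * q⁻¹ = e ∨ q * e * q⁻¹ = s * e)
    (hf : ∀ q ∈ Q, q * f * q⁻¹ = f ∨ q * f * q⁻¹ = s * f)
    (hfe : f * e * f⁻¹ = s * e) (hef : e * f * e⁻¹ = s * f)
    {x : G} (hxe : x * e = e * x) (hxf : x * f = f * x)
    (hx : ∀ q ∈ Q, q * e = e * q → q * f = f * q → x * q = q * x) :
    ∀ q ∈ Q, x * q = q * x := by
  intro q hq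
  have key : ∀ r ∈ Q, x * r = r * x → (r * q) * e * (r * q)⁻¹ = e → (r * q) * f * (r * q)⁻¹ = f →
      x * q = q * x := by
    intro r hr hxr h1 h2
    rw [mul_inv_eq_iff_eq_mul] at h1 h2
    have h3 := hx (r * q) (mul_mem hr hq) h1 h2
    have h4 : x * r * q = r * q * x := by rw [mul_assoc]; exact h3
    rw [hxr, mul_assoc, mul_assoc] at h4
    exact mul_left_cancel h4
  have hss : ∀ y : G, s * (s * y) = y := fun y => by rw [← mul_assoc, hs2, one_mul]
  have hes : e * s = s * e := hsQ e heQ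
  have hfs : f * s = s * f := hsQ f hfQ
  have conj_mul : ∀ r y : G, (r * q) * y * (r * q)⁻¹ = r * (q * y * q⁻¹) * r⁻¹ := by
    intro r y; group
  have e1 : e * (s * f) * e⁻¹ = f := by
    have : e * (s * f) * e⁻¹ = (e * s) * f * e⁻¹ := by group
    rw [this, hes]
    have : s * e * f * e⁻¹ = s * (e * f * e⁻¹) := by group
    rw [this, hef, hss]
  have f1 : f * (s * e) * f⁻¹ = e := by
    have : f * (s * e) * f⁻¹ = (f * s) * e * f⁻¹ := by group
    rw [this, hfs]
    have : s * f * e * f⁻¹ = s * (f * e * f⁻¹) := by group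
    rw [this, hfe, hss]
  have f2 : f * (s * f) * f⁻¹ = s * f := by
    have : f * (s * f) * f⁻¹ = f * s := by group
    rw [this, hfs]
  rcases he q hq with h1 | h1 <;> rcases hf q hq with h2 | h2
  · rw [mul_inv_eq_iff_eq_mul] at h1 h2
    exact hx q hq h1 h2
  · refine key e heQ hxe ?_ ?_
    · rw [conj_mul, h1]; group
    · rw [conj_mul, h2, e1]
  · refine key f hfQ hxf ?_ ?_
    · rw [conj_mul, h1, f1]
    · rw [conj_mul, h2]; group
  · refine key (e * f) (mul_mem heQ hfQ) ?_ ?_ ?_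
    · rw [← mul_assoc, hxe, mul_assoc, hxf, mul_assoc]
    · have : e * f * q * e * (e * f * q)⁻¹ = e * (f * (q * e * q⁻¹) * f⁻¹) * e⁻¹ := by group
      rw [this, h1, f1]; group
    · have : e * f * q * f * (e * f * q)⁻¹ = e * (f * (q * f * q⁻¹) * f⁻¹) * e⁻¹ := by group
      rw [this, h2, f2, e1]

/-- an involution of `T` commuting with `C_T(e)` lies in `⟨s, e⟩` -/
theorem claimB {T Q : Subgroup G} {s e f : G} (hQT : Q ≤ T) (heQ : e ∈ Q) (hfQ : f ∈ Q)
    (hs2 : s * s = 1) (he2 : e * e = 1) (hf2 : f * f = 1)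
    (hsT : ∀ t ∈ T, t * s = s * t)
    (hTQ : ∀ t ∈ T, ∀ q ∈ Q, t * q * t⁻¹ ∈ Q)
    (he : ∀ q ∈ Q, q * e * q⁻¹ = e ∨ q * e * q⁻¹ = s * e)
    (hf : ∀ q ∈ Q, q * f * q⁻¹ = f ∨ q * f * q⁻¹ = s * f)
    (hfe : f * e * f⁻¹ = s * e) (hef : e * f * e⁻¹ = s * f)
    (ha : ∀ v ∈ Q, v * v = 1 → v * e = e * v → v * f = f * v → v = 1 ∨ v = s)
    (hcent : ∀ x ∈ T, x * x = 1 → (∀ q ∈ Q, x * q = q * x) → x = 1 ∨ x = s)
    {y : G} (hyT : y ∈ T) (hy2 : y * y = 1) (hy : ∀ t ∈ T, t * e = e * t → y * t = t * y) :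
    y = 1 ∨ y = s ∨ y = e ∨ y = s * e := by
  have hfi : f⁻¹ = f := inv_eq_of_mul_eq_one_left hf2
  have hyi : y⁻¹ = y := inv_eq_of_mul_eq_one_left hy2
  have hei : e⁻¹ = e := inv_eq_of_mul_eq_one_left he2
  have heT := hQT heQ
  have hfT := hQT hfQ
  have hye : y * e = e * y := hy e heT rfl
  have hsQ : ∀ q ∈ Q, q * s = s * q := fun q hq => hsT q (hQT hq)
  -- `f` normalises `C_T(e)`
  have hconjf : ∀ t ∈ T, t * e = e * t → (f * t * f⁻¹) * e = e * (f * t * f⁻¹) := by
    intro t ht hte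
    have h1 : Commute t e := hte
    have h2 : Commute t s := hsT t ht
    have h3 : Commute (f * t * f⁻¹) (f * e * f⁻¹) := h1.map (MulAut.conj f)
    have h4 : Commute (f * t * f⁻¹) s := hsT _ (mul_mem (mul_mem hfT ht) (inv_mem hfT))
    rw [hfe] at h3
    have h5 := h4.mul_right h3
    rw [← mul_assoc, hs2, one_mul] at h5
    exact h5
  obtain ⟨y', hy'⟩ : ∃ y', y' = f * y * f⁻¹ := ⟨_, rfl⟩
  have hy'T : y' ∈ T := hy' ▸ mul_mem (mul_mem hfT hyT) (inv_mem hfT)
  have hy'2 : y' * y' = 1 := by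
    have : y' * y' = f * (y * y) * f⁻¹ := by rw [hy']; group
    rw [this, hy2]; group
  have hy'T₀ : ∀ t ∈ T, t * e = e * t → y' * t = t * y' := by
    intro t ht hte
    have h1 := hconjf t ht hte
    have h2 : Commute y (f * t * f⁻¹) := hy _ (mul_mem (mul_mem hfT ht) (inv_mem hfT)) h1
    have h3 : Commute (f * y * f⁻¹) (f * (f * t * f⁻¹) * f⁻¹) := h2.map (MulAut.conj f)
    have h4 : f * (f * t * f⁻¹) * f⁻¹ = t := by
      rw [hfi]
      have : f * (f * t * f) * f = (f * f) * t * (f * f) := by group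
      rw [this, hf2]; group
    rw [h4, ← hy'] at h3
    exact h3
  have hy'e : y' * e = e * y' := hy'T₀ e heT rfl
  have hyy' : y * y' = y' * y := hy y' hy'T hy'e
  obtain ⟨w, hw⟩ : ∃ w, w = y' * y := ⟨_, rfl⟩
  have hwQ : w ∈ Q := by
    have h1 : w = f * (y * f⁻¹ * y⁻¹) := by rw [hw, hy', hyi]; group
    rw [h1]
    exact mul_mem hfQ (hTQ y hyT _ (inv_mem hfQ))
  have hw2 : w * w = 1 := by
    have : w * w = (y' * y') * (y * y) := by
      rw [hw]
      calc y' * y * (y' * y) = y' * (y * y') * y := by group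
        _ = y' * (y' * y) * y := by rw [hyy']
        _ = (y' * y') * (y * y) := by group
    rw [this, hy'2, hy2, one_mul]
  have hwe : w * e = e * w := by
    rw [hw, mul_assoc, hye, ← mul_assoc, hy'e, mul_assoc]
  have hwf : w * f = f * w := by
    have h1 : f * w * f⁻¹ = w := by
      have h2 : f * w * f⁻¹ = (f * f) * y * (f * f)⁻¹ * (f * y * f⁻¹) := by
        rw [hw, hy']; group
      rw [h2, hf2, ← hy', hw]
      simp [hyy']
    rw [mul_inv_eq_iff_eq_mul] at h1
    exact h1.symm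
  rcases ha w hwQ hw2 hwe hwf with h | h
  · -- `y` commutes with `f`
    have h1 : y' = y := by
      have : y' = y⁻¹ := eq_inv_of_mul_eq_one_left (hw ▸ h)
      rw [this, hyi]
    have hyf : y * f = f * y := by
      rw [hy', mul_inv_eq_iff_eq_mul] at h1
      exact h1.symm
    have h2 := gen heQ hfQ hs2 hsQ he hf hfe hef hye hyf
      (fun q hq hqe _ => hy q (hQT hq) hqe)
    rcases hcent y hyT hy2 h2 with h3 | h3
    · exact Or.inl h3
    · exact Or.inr (Or.inl h3)
  · -- `y e` commutes with `f`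
    have h1 : y' = s * y := by
      have : y' = s * y⁻¹ := by rw [← h, hw]; group
      rw [this, hyi]
    obtain ⟨x, hx⟩ : ∃ x, x = y * e := ⟨_, rfl⟩
    have hxT : x ∈ T := hx ▸ mul_mem hyT heT
    have hx2 : x * x = 1 := by
      have : x * x = (y * y) * (e * e) := by
        rw [hx]
        calc y * e * (y * e) = y * (e * y) * e := by group
          _ = y * (y * e) * e := by rw [hye]
          _ = (y * y) * (e * e) := by group
      rw [this, hy2, he2, one_mul]
    have hxe : x * e = e * x := by rw [hx, mul_assoc, he2, ← mul_assoc, ← hye, mul_assoc, he2]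
    have hxf : x * f = f * x := by
      have h2 : f * x * f⁻¹ = x := by
        have h3 : f * x * f⁻¹ = (f * y * f⁻¹) * (f * e * f⁻¹) := by rw [hx]; group
        rw [h3, ← hy', h1, hfe, hx]
        have h4 : y * s = s * y := hsT y hyT
        calc s * y * (s * e) = s * (y * s) * e := by group
          _ = (s * s) * y * e := by rw [h4]; group
          _ = y * e := by rw [hs2, one_mul]
      rw [mul_inv_eq_iff_eq_mul] at h2
      exact h2.symm
    have h2 := gen heQ hfQ hs2 hsQ he hf hfe hef hxe hxf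
      (fun q hq hqe _ => by
        have h3 : y * q = q * y := hy q (hQT hq) hqe
        rw [hx, mul_assoc, ← hqe, ← mul_assoc, h3, mul_assoc])
    rcases hcent x hxT hx2 h2 with h3 | h3
    · right; right; left
      rw [hx] at h3
      have : y = e⁻¹ := eq_inv_of_mul_eq_one_left h3
      rw [this, hei]
    · right; right; right
      rw [hx] at h3
      have : y = s * e⁻¹ := by rw [← h3]; group
      rw [this, hei]

end Cfsg.Agent.Dichotomy.KeyAux
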