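import Cfsg.Agent.Dichotomy.Constraint
import Cfsg.Agent.SignalizersComponents.PLayerAut
import Cfsg.Agent.SignalizersComponents.CoreOfCentralizer

/-!
# `O_{2',2}(C_G(s))` as a subgroup of `G`
-/

set_option autoImplicit false

namespace Cfsg.Agent.Dichotomy.Local

open Cfsg
open Cfsg.Agent.Lib.Cores
open Cfsg.Agent.SignalizersComponents
open Cfsg.Agent.SignalizersComponents.RelSylow

variable {G : Type*} [Group G]

/-- `O_{2',2}(D)` as a subgroup of `G`. -/
def MM (D : Subgroup G) : Subgroup G := (pPrimePCore 2 ↥D).map D.subtype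

theorem MM_def (D : Subgroup G) : MM D = (pPrimePCore 2 ↥D).map D.subtype := rfl

theorem MM_le (D : Subgroup G) : MM D ≤ D := Subgroup.map_subtype_le _

theorem mem_MM_iff {D : Subgroup G} {x : G} (hx : x ∈ D) :
    x ∈ MM D ↔ (⟨x, hx⟩ : D) ∈ pPrimePCore 2 ↥D := by
  rw [MM_def]
  constructor
  · rintro ⟨y, hy, hyx⟩
    have : y = ⟨x, hx⟩ := Subtype.ext hyx
    rwa [← this]
  · intro h
    exact ⟨_, h, rfl⟩

theorem conj_mem_MM {D : Subgroup G} {c x : G} (hc : c ∈ D) (hx : x ∈ MM D) :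
    c * x * c⁻¹ ∈ MM D := by
  have hxD := MM_le D hx
  rw [mem_MM_iff hxD] at hx
  have h := (PConstrained.pPrimePCore_normal (G := D) 2).conj_mem _ hx ⟨c, hc⟩
  exact ⟨_, h, rfl⟩

theorem MM_map (D : Subgroup G) (g : G) :
    (MM D).map (MulAut.conj g).toMonoidHom = MM (D.map (MulAut.conj g).toMonoidHom) := by
  set e : ↥D ≃* ↥(D.map (MulAut.conj g).toMonoidHom) :=
    D.equivMapOfInjective (MulAut.conj g).toMonoidHom (MulAut.conj g).injective with he
  have h := PLayerAut.map_equiv_pPrimePCore 2 e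
  rw [MM_def, MM_def, ← h]
  ext x
  constructor
  · rintro ⟨_, ⟨y, hy, rfl⟩, rfl⟩
    exact ⟨e y, ⟨y, hy, rfl⟩, rfl⟩
  · rintro ⟨_, ⟨y, hy, rfl⟩, rfl⟩
    exact ⟨y, ⟨y, hy, rfl⟩, rfl⟩

theorem centralizer_conj (a g : G) :
    (Subgroup.centralizer ({a} : Set G)).map (MulAut.conj g).toMonoidHom =
      Subgroup.centralizer ({g * a * g⁻¹} : Set G) := by
  ext x
  rw [Subgroup.mem_centralizer_singleton_iff]
  constructor
  · rintro ⟨y, hy, rfl⟩
    have hy' : y * a = a * y := Subgroup.mem_centralizer_singleton_iff.1 hy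
    have := congrArg (fun z => g * z * g⁻¹) hy'
    simpa [mul_assoc] using this
  · intro hx
    refine ⟨g⁻¹ * x * g, ?_, by simp [mul_assoc]⟩
    refine Subgroup.mem_centralizer_singleton_iff.2 ?_
    have := congrArg (fun z => g⁻¹ * z * g) hx
    simpa [mul_assoc] using this

/-- `O_{2',2}(C_G(s))` -/
abbrev M (s : G) : Subgroup G := MM (Subgroup.centralizer ({s} : Set G))

theorem conj_mem_M (g : G) {s x : G} (hx : x ∈ M s) : g * x * g⁻¹ ∈ M (g * s * g⁻¹) := by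
  have h : g * x * g⁻¹ ∈ (M s).map (MulAut.conj g).toMonoidHom := ⟨x, hx, rfl⟩
  rw [MM_map, centralizer_conj] at h
  exact h

theorem th_le_M (s : G) : centralizerPPrimeCore 2 s ≤ M s := by
  rintro _ ⟨y, hy, rfl⟩
  exact ⟨y, PConstrained.pPrimeCore_le_pPrimePCore (G := Subgroup.centralizer ({s} : Set G)) 2 hy, rfl⟩

theorem le_th {s : G} {Y : Subgroup G} (hY : Y ≤ M s) (hcard : ¬ 2 ∣ Nat.card Y) :
    Y ≤ centralizerPPrimeCore 2 s := by
  have hYC : Y ≤ Subgroup.centralizer ({s} : Set G) := hY.trans (MM_le _)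
  have h1 : Y.subgroupOf (Subgroup.centralizer ({s} : Set G)) ≤
      pPrimePCore 2 ↥(Subgroup.centralizer ({s} : Set G)) := by
    intro y hy
    exact (mem_MM_iff y.2).1 (hY hy)
  have h2 : Nat.card (Y.subgroupOf (Subgroup.centralizer ({s} : Set G))) = Nat.card Y :=
    Nat.card_congr (Subgroup.subgroupOfEquivOfLe hYC).toEquiv
  have h3 := Constraint.le_pPrimeCore_of_le (p := 2) h1 (by rwa [h2])
  intro y hy
  exact ⟨⟨y, hYC hy⟩, h3 hy, rfl⟩

/-- `C_G(s)/O(C_G(s))` has characteristic 2 -/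
def Constr (s : G) : Prop :=
  Subgroup.centralizer (pCore 2 (↥(Subgroup.centralizer ({s} : Set G)) ⧸
      pPrimeCore 2 ↥(Subgroup.centralizer ({s} : Set G))) :
        Set (↥(Subgroup.centralizer ({s} : Set G)) ⧸
      pPrimeCore 2 ↥(Subgroup.centralizer ({s} : Set G)))) ≤
    pCore 2 (↥(Subgroup.centralizer ({s} : Set G)) ⧸
      pPrimeCore 2 ↥(Subgroup.centralizer ({s} : Set G)))

section

variable {s : G} {T : Subgroup G}
  (hT : IsMaxP 2 (Subgroup.centralizer ({s} : Set G)) T)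

include hT

theorem mem_inf_iff (q : Subgroup.centralizer ({s} : Set G)) :
    q ∈ (hT.toSylow : Subgroup _) ⊓ pPrimePCore 2 ↥(Subgroup.centralizer ({s} : Set G)) ↔
      (q : G) ∈ T ⊓ M s := by
  rw [hT.coe_toSylow, Subgroup.mem_inf, Subgroup.mem_inf, Subgroup.mem_subgroupOf]
  exact and_congr Iff.rfl (mem_MM_iff q.2).symm

theorem frattini [Finite G] {c : G} (hc : c ∈ Subgroup.centralizer ({s} : Set G)) :
    ∃ o ∈ centralizerPPrimeCore 2 s, ∃ n ∈ Subgroup.centralizer ({s} : Set G),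
      (∀ q, q ∈ T ⊓ M s → n * q * n⁻¹ ∈ T ⊓ M s) ∧
      (∀ q, q ∈ T ⊓ M s → n⁻¹ * q * n ∈ T ⊓ M s) ∧ c = o * n := by
  obtain ⟨o, ho, n, hn, hon⟩ := Constraint.frattini hT.toSylow (⟨c, hc⟩ : Subgroup.centralizer ({s} : Set G))
  refine ⟨o, ⟨o, ho, rfl⟩, n, n.2, ?_, ?_, congrArg Subtype.val hon⟩
  · intro q hq
    have hqC : q ∈ Subgroup.centralizer ({s} : Set G) := hT.2.1 hq.1
    have h1 := (Subgroup.mem_normalizer_iff.1 hn ⟨q, hqC⟩).1 ((mem_inf_iff hT ⟨q, hqC⟩).2 hq)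
    exact (mem_inf_iff hT _).1 h1
  · intro q hq
    have hqC : q ∈ Subgroup.centralizer ({s} : Set G) := hT.2.1 hq.1
    have h1 := (Subgroup.mem_normalizer_iff.1 (inv_mem hn) ⟨q, hqC⟩).1
      ((mem_inf_iff hT ⟨q, hqC⟩).2 hq)
    rw [inv_inv] at h1
    exact (mem_inf_iff hT _).1 h1

theorem mem_M_of_commute [Finite G] (hs : Constr s) {x : G} (hx : x ∈ Subgroup.centralizer ({s} : Set G))
    (h : ∀ q ∈ T ⊓ M s, x * q = q * x) : x ∈ M s := by
  rw [mem_MM_iff hx]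
  refine Constraint.mem_of_commute hs hT.toSylow ?_
  intro q hq
  exact Subtype.ext (h q ((mem_inf_iff hT q).1 hq))

theorem mem_M_of_commute_mod [Finite G] (hs : Constr s) (hs2 : s * s = 1) {e : G}
    (he : e ∈ Subgroup.centralizer ({s} : Set G))
    (h : ∀ q ∈ T ⊓ M s, e * q * e⁻¹ = q ∨ e * q * e⁻¹ = s * q) : e ∈ M s := by
  rw [mem_MM_iff he]
  have hsC : s ∈ Subgroup.centralizer ({s} : Set G) := Subgroup.mem_centralizer_singleton_iff.2 rfl
  refine Constraint.mem_of_commute_mod hs hT.toSylow (s := ⟨s, hsC⟩) ?_ ?_ ?_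
  · intro x
    exact Subtype.ext (Subgroup.mem_centralizer_singleton_iff.1 x.2).symm
  · apply Subtype.ext
    change s ^ 2 = 1
    rw [pow_two, hs2]
  · intro q hq
    rcases h q ((mem_inf_iff hT q).1 hq) with h1 | h1
    · refine ⟨0, Subtype.ext ?_⟩
      rw [pow_zero, one_mul]
      exact h1
    · refine ⟨1, Subtype.ext ?_⟩
      rw [pow_one]
      exact h1

end

end Cfsg.Agent.Dichotomy.Local
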