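import Cfsg.Agent.Dichotomy.Central
import Cfsg.Prelude.Def_Involutions

/-!
# The cores of the centralizers of involutions are trivial
-/

set_option autoImplicit false

namespace Cfsg.Agent.Dichotomy.Main

open Cfsg
open Cfsg.Agent.Dichotomy.Elem
open Cfsg.Agent.Dichotomy.Functor
open Cfsg.Agent.Dichotomy.Local
open Cfsg.Agent.Dichotomy.Key
open Cfsg.Agent.Dichotomy.Central
open Cfsg.Agent.SignalizersComponents.RelSylow

variable {G : Type*} [Group G]

theorem isMaxP_of_le {p : ℕ} (S : Sylow p G) {C : Subgroup G} (h : (S : Subgroup G) ≤ C) :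
    IsMaxP p C (S : Subgroup G) :=
  ⟨S.2, h, fun R' h1 _ h3 => (S.3 h1 h3).le⟩

theorem le_centralizer {A : Subgroup G} (hA : Big A) {s : G} (hs : s ∈ A) :
    A ≤ Subgroup.centralizer ({s} : Set G) := fun a ha => mem_cent.2 (elem_comm hA.1 a ha s hs)

theorem isPGroup_zpowers {s : G} (hs : orderOf s = 2) : IsPGroup 2 (Subgroup.zpowers s) := by
  refine IsPGroup.of_card (n := 1) ?_
  rw [Nat.card_zpowers, hs, pow_one]

section

variable [Finite G] (hF : Fun G) (hcon : ∀ a : G, orderOf a = 2 → Constr a)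

include hF hcon

theorem centralizer_le {s : G} (hs : orderOf s = 2) {A : Subgroup G} (hA : Big A) (hsA : s ∈ A) :
    Subgroup.centralizer ({s} : Set G) ≤ Subgroup.normalizer (W A : Set G) := by
  obtain ⟨T, hT, hAT⟩ := exists_isMaxP (p := 2) (isPGroup_of_elem hA.1) (le_centralizer hA hsA)
  rw [← WW_eq hF hT.1 hAT hA]
  exact key hF hcon hs hT hAT hA

theorem W_eq_of_mem {s : G} (hs : orderOf s = 2) {A A' : Subgroup G} (hA : Big A) (hsA : s ∈ A)
    (hA' : Big A') (hsA' : s ∈ A') : W A = W A' := by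
  obtain ⟨T, hT, hAT⟩ := exists_isMaxP (p := 2) (isPGroup_of_elem hA.1) (le_centralizer hA hsA)
  obtain ⟨c, hc, hle⟩ := hT.exists_conj_le (isPGroup_of_elem hA'.1) (le_centralizer hA' hsA')
  have h1 : W A = W (A'.map (MulAut.conj c).toMonoidHom) := by
    rw [← WW_eq hF hT.1 hAT hA, WW_eq hF hT.1 hle (big_map hA' (MulAut.conj c).injective)]
  have h2 : c ∈ Subgroup.normalizer (W A' : Set G) := centralizer_le hF hcon hs hA' hsA' hc
  rw [h1, ← W_conj, map_eq_of_mem_normalizer h2]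

variable (hT1 : ∀ t : G, orderOf t = 2 → ∃ A : Subgroup G, Big A ∧ t ∈ A)

include hT1

/-- all the `W_A` with `A ∩ S ≠ 1` coincide. -/
theorem W_eq_of_mem_sylow (S : Sylow 2 G) {z : G} (hzS : z ∈ (S : Subgroup G))
    (hz2 : z * z = 1) (hz1 : z ≠ 1) (hzc : ∀ t ∈ (S : Subgroup G), t * z = z * t)
    {A₀ : Subgroup G} (hA₀ : Big A₀) (hzA₀ : z ∈ A₀) {s : G} (hs : orderOf s = 2)
    (hsS : s ∈ (S : Subgroup G)) {A : Subgroup G} (hA : Big A) (hsA : s ∈ A) : W A = W A₀ := by
  have hoz := orderOf_two hz2 hz1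
  by_cases hsz : s = z
  · exact W_eq_of_mem hF hcon hoz hA (hsz ▸ hsA) hA₀ hzA₀
  · have hmax : IsMaxP 2 (Subgroup.centralizer ({z} : Set G)) (S : Subgroup G) :=
      isMaxP_of_le S (fun t ht => mem_cent.2 (hzc t ht))
    obtain ⟨A₁, hA₁, hzA₁, hsA₁⟩ := central hF hT1 hmax hz2 hz1 (sq_of_orderOf hs)
      (ne_one_of_orderOf hs) hsz (hzc s hsS)
    rw [W_eq_of_mem hF hcon hs hA hsA hA₁ hsA₁, W_eq_of_mem hF hcon hoz hA₁ hzA₁ hA₀ hzA₀]

/-- **Main theorem.** -/
theorem core_eq_bot (hO : oddCore G = ⊥)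
    (hSE : ∀ H : Subgroup G, IsStronglyEmbedded H → (oddCore ↥H).map H.subtype ≤ oddCore G)
    {t : G} (ht : orderOf t = 2) : centralizerPPrimeCore 2 t = ⊥ := by
  have h2 : Fact (Nat.Prime 2) := ⟨Nat.prime_two⟩
  obtain ⟨S⟩ : Nonempty (Sylow 2 G) := inferInstance
  -- conjugate an involution into `S`
  have hconjS : ∀ s : G, orderOf s = 2 → ∃ g : G, g * s * g⁻¹ ∈ (S : Subgroup G) := by
    intro s hs
    obtain ⟨g, _, hle⟩ := (isMaxP_of_le S (le_top : (S : Subgroup G) ≤ ⊤)).exists_conj_le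
      (isPGroup_zpowers hs) le_top
    exact ⟨g, hle ⟨s, Subgroup.mem_zpowers s, rfl⟩⟩
  have horder : ∀ s g : G, orderOf s = 2 → orderOf (g * s * g⁻¹) = 2 := by
    intro s g hs
    rw [← hs]
    exact orderOf_injective (MulAut.conj g).toMonoidHom (MulAut.conj g).injective s
  have hSne : (S : Subgroup G) ≠ ⊥ := by
    intro h
    obtain ⟨g, hg⟩ := hconjS t ht
    rw [h, Subgroup.mem_bot] at hg
    have := horder t g ht
    rw [hg, orderOf_one] at this
    omega
  obtain ⟨z, hzS, hz2, hz1, hzc⟩ := exists_central_involution S.2 hSne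
  have hoz := orderOf_two hz2 hz1
  obtain ⟨A₀, hA₀, hzA₀⟩ := hT1 z hoz
  obtain ⟨V, hV⟩ : ∃ V, V = W A₀ := ⟨_, rfl⟩
  have hVS : ∀ s : G, orderOf s = 2 → s ∈ (S : Subgroup G) → ∀ A : Subgroup G, Big A → s ∈ A →
      W A = V := by
    intro s hs hsS A hA hsA
    rw [hV]
    exact W_eq_of_mem_sylow hF hcon hT1 S hzS hz2 hz1 hzc hA₀ hzA₀ hs hsS hA hsA
  obtain ⟨H, hH⟩ : ∃ H, H = Subgroup.normalizer (V : Set G) := ⟨_, rfl⟩
  have hSH : (S : Subgroup G) ≤ H := by
    intro x hx
    rw [hH, hV]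
    exact centralizer_le hF hcon hoz hA₀ hzA₀ (mem_cent.2 (hzc x hx))
  have hmaxH : IsMaxP 2 H (S : Subgroup G) := isMaxP_of_le S hSH
  -- involutions of `H`
  have hVH : ∀ s : G, orderOf s = 2 → s ∈ H → ∀ A : Subgroup G, Big A → s ∈ A → W A = V := by
    intro s hs hsH A hA hsA
    obtain ⟨h, hh, hle⟩ := hmaxH.exists_conj_le (isPGroup_zpowers hs)
      (by rwa [Subgroup.zpowers_le])
    have h1 : h * s * h⁻¹ ∈ (S : Subgroup G) := hle ⟨s, Subgroup.mem_zpowers s, rfl⟩
    have h3 := hVS (h * s * h⁻¹) (horder s h hs) h1 (A.map (MulAut.conj h).toMonoidHom)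
      (big_map hA (MulAut.conj h).injective) ⟨s, hsA, rfl⟩
    rw [← W_conj] at h3
    have h4 : h⁻¹ ∈ Subgroup.normalizer (V : Set G) := inv_mem (hH ▸ hh)
    have h5 := map_conj_inv (W A) h
    rw [h3, map_eq_of_mem_normalizer h4] at h5
    exact h5.symm
  have hfus : ∀ s g : G, orderOf s = 2 → s ∈ H → g * s * g⁻¹ ∈ H → g ∈ H := by
    intro s g hs hsH hgH
    obtain ⟨A, hA, hsA⟩ := hT1 s hs
    have h1 := hVH s hs hsH A hA hsA
    have h3 := hVH (g * s * g⁻¹) (horder s g hs) hgH (A.map (MulAut.conj g).toMonoidHom)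
      (big_map hA (MulAut.conj g).injective) ⟨s, hsA, rfl⟩
    rw [← W_conj, h1] at h3
    rw [hH]
    exact mem_normalizer_of_map_eq h3
  have hVodd : (Nat.card V).Coprime 2 := by
    rw [hV]
    exact ((Nat.Prime.coprime_iff_not_dvd Nat.prime_two).2 (complete hF hA₀).1).symm
  have hVbot : V = ⊥ := by
    by_cases hHt : H = ⊤
    · have hn : V.Normal := Subgroup.normalizer_eq_top_iff.1 (hH ▸ hHt)
      have h3 : V ≤ oddCore G := Lib.Cores.le_pPrimeCore hn hVodd
      rw [hO] at h3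
      exact le_bot_iff.1 h3
    · have hse : IsStronglyEmbedded H := by
        refine ⟨hHt, ?_, ?_⟩
        · rw [even_iff_two_dvd]
          have h3 : orderOf (⟨z, hSH hzS⟩ : H) = 2 := by
            rw [← Subgroup.orderOf_coe]; exact hoz
          rw [← h3]
          exact orderOf_dvd_natCard _
        · intro g hg
          by_contra hodd
          rw [Nat.not_odd_iff_even, even_iff_two_dvd] at hodd
          obtain ⟨u, hu⟩ := exists_prime_orderOf_dvd_card' 2 hodd
          have hu' : orderOf (u : G) = 2 := by rw [Subgroup.orderOf_coe, hu]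
          have h3 := u.2.1
          have h4 := mem_map_conj.1 u.2.2
          apply hg
          refine hfus (g⁻¹ * u * g) g ?_ h4 ?_
          · have := horder u g⁻¹ hu'
            rwa [inv_inv] at this
          · have : g * (g⁻¹ * (u : G) * g) * g⁻¹ = u := by group
            rw [this]
            exact h3
      have h3 := hSE _ hse
      rw [hO] at h3
      have hVH' : V ≤ H := by rw [hH]; exact Subgroup.le_normalizer
      have hn : (V.subgroupOf H).Normal := by
        rw [Subgroup.normal_subgroupOf_iff_le_normalizer hVH', hH]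
      have h4 : V.subgroupOf H ≤ oddCore H := by
        refine Lib.Cores.le_pPrimeCore hn ?_
        rwa [Nat.card_congr (Subgroup.subgroupOfEquivOfLe hVH').toEquiv]
      have h5 := (Subgroup.map_mono (f := H.subtype) h4).trans h3
      rw [Subgroup.subgroupOf_map_subtype, inf_eq_left.mpr hVH'] at h5
      exact le_bot_iff.1 h5
  -- conclusion
  obtain ⟨g, hg⟩ := hconjS t ht
  have hgt := horder t g ht
  obtain ⟨A, hA, htA⟩ := hT1 _ hgt
  have h3 := hVS _ hgt hg A hA htA
  have h4 := le_W A htA (ne_one_of_orderOf hgt)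
  rw [h3, hVbot, th_conj] at h4
  rw [le_bot_iff] at h4
  exact (Subgroup.map_eq_bot_iff_of_injective _ (MulAut.conj g).injective).1 h4

end

end Cfsg.Agent.Dichotomy.Main
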